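import Cfsg.Agent.Lib.Char.FeitDegree.Members
import Cfsg.Agent.Lib.Char.Monomial

/-!
# Rational values: powers, and eigenvalue counts
-/

set_option autoImplicit false

open scoped Classical ComplexConjugate

namespace CfsgLib.Char.FeitDegree.Sixteen

open Cfsg CfsgLib CfsgLib.Blocks CfsgLib.Blocks.DefectOne CfsgLib.CharDeep.ExactP
open CfsgLib.Char.DegHalf (Over)
open Setup Weight Block

universe u

variable {G : Type u} [Group G] [Fintype G]

/-- The transform of the values on the powers of `g`. -/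
noncomputable def cnt (f : G → ℂ) (g : G) (a : ℂ) : ℂ :=
  ∑ k ∈ Finset.range (orderOf g), f (g ^ k) * conj a ^ k

/-- The eigenvalues, their counts and their invariance. -/
theorem exists_roots {f : G → ℂ} (hf : Cfsg.IsCharacter G f) (g : G) :
    ∃ μ : Fin (charDegree f) → ℂ, (∀ i, μ i ^ orderOf g = 1) ∧ (∀ k : ℕ, f (g ^ k) = ∑ i, μ i ^ k) ∧
      ∀ a : ℂ, a ^ orderOf g = 1 → cnt f g a = (orderOf g : ℂ) * (Finset.univ.filter fun i => μ i = a).card := by
  obtain ⟨n, ρ, rfl⟩ := hf
  obtain ⟨μ, h1, h2⟩ := exists_eigenvalues ρ g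
  have hn : charDegree ρ.character = Module.finrank ℂ (Fin n → ℂ) := by
    rw [charDegree, Representation.char_one, Complex.natCast_re, Nat.floor_natCast]
  refine ⟨fun i => μ (Fin.cast hn i), fun i => h1 _, fun k => ?_, fun a ha => ?_⟩
  · rw [h2 k]
    exact (Fintype.sum_equiv (finCongr hn) _ _ fun i => rfl).symm
  have hconj : a * conj a = 1 := by
    rw [Complex.mul_conj', norm_eq_one_of_pow_orderOf ha]; norm_num
  have hcard : (Finset.univ.filter fun i : Fin (charDegree ρ.character) => μ (Fin.cast hn i) = a).card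
      = (Finset.univ.filter fun i => μ i = a).card :=
    Finset.card_equiv (finCongr hn) fun i => by simp
  rw [hcard, cnt, Finset.sum_congr rfl (g := fun k => ∑ i, (μ i * conj a) ^ k) fun k _ => by
    rw [h2, Finset.sum_mul]; exact Finset.sum_congr rfl fun i _ => (mul_pow _ _ _).symm,
    Finset.sum_comm, Finset.card_filter, Nat.cast_sum, Finset.mul_sum]
  refine Finset.sum_congr rfl fun i _ => ?_
  split_ifs with h
  · rw [h, Finset.sum_congr rfl fun j _ => by rw [hconj, one_pow], Finset.sum_const, Finset.card_range,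
      nsmul_eq_mul, mul_one, Nat.cast_one, mul_one]
  · have hne : μ i * conj a ≠ 1 := fun e => h (by
      calc μ i = μ i * (a * conj a) := by rw [hconj, mul_one]
        _ = a * (μ i * conj a) := by ring
        _ = a := by rw [e, mul_one])
    rw [geom_sum_eq hne, mul_pow, h1, one_mul, ← map_pow, ha, map_one, sub_self, zero_div, Nat.cast_zero, mul_zero]

theorem exists_cnt {f : G → ℂ} (hf : Cfsg.IsCharacter G f) (g : G) {a : ℂ} (ha : a ^ orderOf g = 1) :
    ∃ N : ℕ, N ≤ charDegree f ∧ cnt f g a = (orderOf g : ℂ) * N := by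
  obtain ⟨μ, -, -, h⟩ := exists_roots hf g
  exact ⟨_, le_trans (Finset.card_le_univ _) (Fintype.card_fin _).le, h a ha⟩

theorem cnt_sum {f : G → ℂ} {m : IrrCharacter G → ℕ} (hexp : ∀ g, f g = ∑ φ, (m φ : ℂ) * (φ : G → ℂ) g) (g : G)
    (a : ℂ) : cnt f g a = ∑ φ, (m φ : ℂ) * cnt (φ : G → ℂ) g a := by
  simp only [cnt, hexp, Finset.sum_mul, Finset.mul_sum, mul_assoc]
  exact Finset.sum_comm

theorem cnt_bound {f : G → ℂ} (hf : Cfsg.IsCharacter G f) (g : G) (S : Finset ℂ)
    (hS : ∀ a ∈ S, a ^ orderOf g = 1) {N : ℕ} (hN : ∀ a ∈ S, cnt f g a = (orderOf g : ℂ) * N) :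
    S.card * N ≤ charDegree f := by
  obtain ⟨μ, -, -, h⟩ := exists_roots hf g
  have hn0 : (orderOf g : ℂ) ≠ 0 := Nat.cast_ne_zero.2 (orderOf_pos g).ne'
  have hc : ∀ a ∈ S, (Finset.univ.filter fun i => μ i = a).card = N := fun a ha =>
    Nat.cast_injective (mul_left_cancel₀ hn0 ((h a (hS a ha)).symm.trans (hN a ha)))
  calc S.card * N = ∑ a ∈ S, (Finset.univ.filter fun i => μ i = a).card := by
        rw [Finset.sum_congr rfl hc, Finset.sum_const, smul_eq_mul]
    _ = (Finset.univ.filter fun i => μ i ∈ S).card := by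
        rw [Finset.card_eq_sum_card_fiberwise (f := μ) (s := Finset.univ.filter fun i => μ i ∈ S) (t := S)
          fun i hi => (Finset.mem_filter.1 hi).2]
        refine Finset.sum_congr rfl fun a ha => ?_
        congr 1
        ext i
        simp only [Finset.mem_filter, Finset.mem_univ, true_and]
        exact ⟨fun e => ⟨e ▸ ha, e⟩, fun e => e.2⟩
    _ ≤ _ := (Finset.card_le_univ _).trans (Fintype.card_fin _).le

/-- The roots of exact order `n`. -/
noncomputable def prim (n : ℕ) : Finset ℂ := primitiveRoots n ℂ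

theorem mem_prim {n : ℕ} (hn : 0 < n) {a : ℂ} : a ∈ prim n ↔ IsPrimitiveRoot a n := mem_primitiveRoots hn

theorem card_prim (n : ℕ) : (prim n).card = n.totient := Complex.card_primitiveRoots n

theorem exists_prim {n : ℕ} (hn : 0 < n) : ∃ a : ℂ, IsPrimitiveRoot a n :=
  ⟨_, Complex.isPrimitiveRoot_exp n hn.ne'⟩

/-- A geometric sum over the multiples of `m`. -/
theorem sum_dvd {n m : ℕ} (hm : 0 < m) (hmn : m ∣ n) {z : ℂ} (hz : z ^ n = 1) :
    ∑ k ∈ Finset.range n, (if m ∣ k then z ^ k else 0) = if z ^ m = 1 then ((n / m : ℕ) : ℂ) else 0 := by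
  obtain ⟨q, rfl⟩ := hmn
  rw [Nat.mul_div_cancel_left _ hm, ← Finset.sum_filter]
  have himg : (Finset.range (m * q)).filter (m ∣ ·) = (Finset.range q).image (m * ·) := by
    ext k
    simp only [Finset.mem_filter, Finset.mem_range, Finset.mem_image]
    constructor
    · rintro ⟨hk, j, rfl⟩
      exact ⟨j, (Nat.mul_lt_mul_left hm).1 hk, rfl⟩
    · rintro ⟨j, hj, rfl⟩
      exact ⟨(Nat.mul_lt_mul_left hm).2 hj, dvd_mul_right m j⟩
  rw [himg, Finset.sum_image fun a _ b _ e => Nat.eq_of_mul_eq_mul_left hm e]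
  simp only [pow_mul]
  split_ifs with h
  · simp [h]
  · rw [geom_sum_eq h, ← pow_mul, hz, sub_self, zero_div]

/-- The counts of values that depend only on divisibility by two numbers. -/
theorem cnt_formula {f : G → ℂ} {g : G} {m₁ m₂ : ℕ} (h1 : 0 < m₁) (h2 : 0 < m₂) (hd1 : m₁ ∣ orderOf g)
    (hd2 : m₂ ∣ orderOf g) {A B C E : ℂ}
    (hval : ∀ k < orderOf g, f (g ^ k) = A + (if m₁ ∣ k then B else 0) + (if m₂ ∣ k then C else 0) +
      if orderOf g ∣ k then E else 0)
    {a : ℂ} (ha : a ^ orderOf g = 1) :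
    cnt f g a = A * (if a = 1 then (orderOf g : ℂ) else 0) + B * (if a ^ m₁ = 1 then ((orderOf g / m₁ : ℕ) : ℂ) else 0)
      + C * (if a ^ m₂ = 1 then ((orderOf g / m₂ : ℕ) : ℂ) else 0) + E := by
  set n := orderOf g with hn
  have hn0 : 0 < n := orderOf_pos g
  have hz : conj a ^ n = 1 := by rw [← map_pow, ha, map_one]
  have hiff : ∀ m : ℕ, conj a ^ m = 1 ↔ a ^ m = 1 := fun m => by
    rw [← map_pow, ← (starRingEnd ℂ).injective.eq_iff, Complex.conj_conj, map_one]
  have key : ∀ (X : ℂ) (m : ℕ), 0 < m → m ∣ n → ∑ k ∈ Finset.range n, (if m ∣ k then X else 0) * conj a ^ k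
      = X * if a ^ m = 1 then ((n / m : ℕ) : ℂ) else 0 := fun X m hm hmn => by
    simp only [← hiff]
    rw [← sum_dvd hm hmn hz, Finset.mul_sum]
    exact Finset.sum_congr rfl fun k _ => by split_ifs <;> ring
  have hA := key A 1 one_pos (one_dvd n)
  simp only [one_dvd, if_true, pow_one, Nat.div_one] at hA
  rw [cnt, ← hn, Finset.sum_congr rfl fun k hk => by rw [hval k (Finset.mem_range.1 hk)]]
  simp only [add_mul, Finset.sum_add_distrib]
  rw [hA, key B m₁ h1 hd1, key C m₂ h2 hd2, key E n hn0 dvd_rfl, if_pos ha, Nat.div_self hn0, Nat.cast_one, mul_one]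

/-- The value at an element of prime order when the powers have the same value. -/
theorem exists_prime_value {f : G → ℂ} (hf : Cfsg.IsCharacter G f) {g : G} {q : ℕ} (hq : q.Prime)
    (hg : orderOf g = q) (hrat : ∀ k : ℕ, ¬ q ∣ k → f (g ^ k) = f g) :
    ∃ c : ℕ, f g = (charDegree f : ℂ) - q * c ∧ (q - 1) * c ≤ charDegree f := by
  have h1 : f (g ^ 0) = (charDegree f : ℂ) := by
    rw [pow_zero]
    exact (DegreeTools.charDegree_cast hf).symm
  have hcnt : ∀ a ∈ prim q, cnt f g a = (charDegree f : ℂ) - f g := by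
    intro a ha
    have hp := (mem_prim hq.pos).1 ha
    rw [cnt_formula (m₁ := q) (m₂ := q) (A := f g) (B := 0) (C := 0) (E := (charDegree f : ℂ) - f g) hq.pos hq.pos
      hg.symm.dvd hg.symm.dvd (fun k hk => ?_) (by rw [hg]; exact hp.pow_eq_one)]
    · simp [hp.ne_one hq.one_lt]
    · rw [hg] at hk ⊢
      by_cases h0 : q ∣ k
      · rw [Nat.eq_zero_of_dvd_of_lt h0 hk, h1]; simp
      · rw [hrat k h0]; simp [h0]
  obtain ⟨a, ha⟩ := exists_prim hq.pos
  have ha' : a ∈ prim q := (mem_prim hq.pos).2 ha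
  obtain ⟨c, -, hc⟩ := exists_cnt hf g (a := a) (by rw [hg]; exact ha.pow_eq_one)
  refine ⟨c, ?_, ?_⟩
  · have := hcnt a ha'
    rw [hc, hg] at this
    rw [this]; ring
  · rw [← Nat.totient_prime hq, ← card_prim]
    refine cnt_bound hf g (prim q) (fun b hb => by rw [hg]; exact ((mem_prim hq.pos).1 hb).pow_eq_one) fun b hb => ?_
    rw [hcnt b hb, ← hcnt a ha', hc]

end CfsgLib.Char.FeitDegree.Sixteen
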