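import Cfsg.Agent.Lib.Char.FeitDegree.Sixteen.Count
import Cfsg.Agent.Lib.Char.FeitDegree.Pieces

/-!
# Rational values on elements of order prime to `p` and to the centre

A power map fixing `P` and the centre permutes the characters of a block with the same multiplicities
on `P`, so it fixes their values on regular elements.
-/

set_option autoImplicit false

open scoped Classical ComplexConjugate

namespace CfsgLib.Char.FeitDegree.Sixteen

open Cfsg CfsgLib CfsgLib.Blocks CfsgLib.Blocks.DefectOne CfsgLib.CharDeep.ExactP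
open CfsgLib.Char.DegHalf (Over)
open Setup Weight Block

universe u

variable {G : Type u} [Group G] [Fintype G] {p : ℕ} [hp : Fact p.Prime] {P : Sylow p G} {D : Frame P}

/-- The values at the powers prime to `m` of the elements with `g ^ m = 1` agree. -/
def Rat (f : G → ℂ) (m : ℕ) : Prop := ∀ g : G, g ^ m = 1 → ∀ j : ℕ, j.Coprime m → f (g ^ j) = f g

/-- An exponent prime to the order, with given residues. -/
theorem exists_lift_exponent {M m : ℕ} (hM : 0 < M) (hm : 0 < m) (h : M.Coprime m) {j : ℕ} (hj : j.Coprime m)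
    {N : ℕ} (hN : 0 < N) : ∃ J : ℕ, J.Coprime N ∧ J ≡ 1 [MOD M] ∧ J ≡ j [MOD m] := by
  obtain ⟨J₀, h1, h2⟩ := Nat.chineseRemainder h 1 j
  have hc : J₀.Coprime (M * m) := by
    refine Nat.Coprime.mul_right ?_ ?_
    · rw [Nat.coprime_iff_gcd_eq_one, h1.gcd_eq]
      exact Nat.gcd_one_left _
    · rw [Nat.coprime_iff_gcd_eq_one, h2.gcd_eq]
      exact hj
  haveI : NeZero (M * m * N) := ⟨(Nat.mul_pos (Nat.mul_pos hM hm) hN).ne'⟩
  obtain ⟨u, hu⟩ := ZMod.unitsMap_surjective (dvd_mul_right (M * m) N) (ZMod.unitOfCoprime J₀ hc)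
  refine ⟨(u : ZMod (M * m * N)).val, ?_, ?_, ?_⟩
  · exact Nat.Coprime.coprime_dvd_right (dvd_mul_left N (M * m)) (ZMod.val_coe_unit_coprime u)
  all_goals
    have h3 : (u : ZMod (M * m * N)).val ≡ J₀ [MOD M * m] := by
      rw [← ZMod.natCast_eq_natCast_iff, ← ZMod.coe_unitOfCoprime J₀ hc, ← hu, ZMod.unitsMap_val, ZMod.natCast_val]
  · exact (h3.of_dvd (dvd_mul_right M m)).trans h1
  · exact (h3.of_dvd (dvd_mul_left m M)).trans h2

/-- The conjugate of `φ` by a power map. -/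
noncomputable def powIrr (φ : IrrCharacter G) (J : ℕ) (hJ : (Nat.card G).Coprime J) : IrrCharacter G :=
  ⟨fun g => (φ : G → ℂ) (g ^ J), IsIrrCharacter.comp_pow φ.2 J hJ⟩

variable {J : ℕ} {hJ : (Nat.card G).Coprime J}

theorem deg_powIrr (φ : IrrCharacter G) : charDegree (powIrr φ J hJ : G → ℂ) = charDegree (φ : G → ℂ) := by
  simp [Cfsg.charDegree, powIrr]

theorem nP_powIrr (φ : IrrCharacter G) (hJp : J ≡ 1 [MOD p]) (k : ZMod p) : nP D (powIrr φ J hJ) k = nP D φ k := by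
  have h : (fun k => (nP D (powIrr φ J hJ) k : ℂ)) = fun k => (nP D φ k : ℂ) := coeff_unique fun b => by
    rw [← apply_xpow, ← apply_xpow]
    show (φ : G → ℂ) ((D.x ^ b.val) ^ J) = _
    refine congrArg _ ?_
    rw [← pow_mul, pow_eq_pow_iff_modEq, D.ord]
    simpa using hJp.mul_left b.val
  exact_mod_cast congrFun h k

theorem over_powIrr {μ : IrrCharacter D.K0} {φ : IrrCharacter G} (hK : D.K0 = Subgroup.center G)
    (h : Over μ (φ : G → ℂ)) (hJK : J ≡ 1 [MOD Nat.card D.K0]) : Over μ (powIrr φ J hJ : G → ℂ) := by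
  intro g v
  show (φ : G → ℂ) ((g * (v : G)) ^ J) = _ * (φ : G → ℂ) (g ^ J)
  have hc : Commute g (v : G) := Subgroup.mem_center_iff.1 (hK ▸ v.2) g
  have hv : (v : G) ^ J = v := by
    have h1 : (v : G) ^ J = (v : G) ^ 1 := pow_eq_pow_iff_modEq.2 (hJK.of_dvd (by
      rw [Subgroup.orderOf_coe]; exact orderOf_dvd_natCard v))
    rwa [pow_one] at h1
  rw [hc.mul_pow, hv, h]

variable {μ : IrrCharacter D.K0} (B : Blk D μ) (hK : D.K0 = Subgroup.center G)
  (h3 : 3 * Nat.card D.act.range ≤ p - 1) {m : ℕ} (hm : 0 < m) (hmc : (p * Nat.card D.K0).Coprime m)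

omit [Fintype G] hp in
theorem regular_of_pow {g : G} (hpm : ¬ p ∣ m) (hg : g ^ m = 1) : ¬ p ∣ orderOf g :=
  fun h => hpm (h.trans (orderOf_dvd_of_pow_eq_one hg))

include hK hm hmc in
/-- Characters whose conjugates agree with them on regular elements are rational. -/
theorem rat_of_agree (φ : IrrCharacter G) (hov : Over μ (φ : G → ℂ))
    (h : ∀ φ' : IrrCharacter G, Over μ (φ' : G → ℂ) → (∀ k, nP D φ' k = nP D φ k) →
      charDegree (φ' : G → ℂ) = charDegree (φ : G → ℂ) →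
      ∀ g : G, ¬ p ∣ orderOf g → (φ' : G → ℂ) g = (φ : G → ℂ) g) :
    Rat (φ : G → ℂ) m := by
  intro g hg j hj
  obtain ⟨J, hJ, hJM, hJm⟩ := exists_lift_exponent (Nat.mul_pos hp.out.pos Nat.card_pos) hm hmc hj
    (Nat.card_pos (α := G))
  have hpm : ¬ p ∣ m := fun hd =>
    hp.out.ne_one (Nat.eq_one_of_dvd_coprimes hmc (dvd_mul_right p _) hd)
  have h1 := h (powIrr φ J hJ.symm) (over_powIrr hK hov (hJM.of_dvd (dvd_mul_left _ p)))
    (fun k => nP_powIrr φ (hJM.of_dvd (dvd_mul_right p _)) k) (deg_powIrr φ) g (regular_of_pow hpm hg)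
  rw [← h1]
  show (φ : G → ℂ) (g ^ j) = (φ : G → ℂ) (g ^ J)
  refine congrArg _ ?_
  exact pow_eq_pow_iff_modEq.2 (hJm.symm.of_dvd (orderOf_dvd_of_pow_eq_one hg))

include hK h3 hm hmc in
theorem rat_Y {η : IrrCharacter G} (hη : η ∈ B.Y) : Rat (η : G → ℂ) m := by
  refine rat_of_agree hK hm hmc η (B.ov η (Or.inr hη)) fun φ' hov hnP _ g hg => ?_
  obtain ⟨l, rfl⟩ := (B.mem_Y η).1 hη
  have hl : (l : ZMod p) ∈ cos D l := (mem_cos_iff D l l).2 (by rw [inv_mul_cancel]; exact one_mem _)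
  obtain ⟨k', hk'⟩ := Members.exists_off h3 l
  have e1 := B.diffY l (l : ZMod p)
  rw [if_pos hl, ← hnP, ← hnP] at e1
  have e2 := B.diffY l (k' : ZMod p)
  rw [if_neg hk', ← hnP, ← hnP] at e2
  have hY : φ' ∈ B.Y := by
    by_contra hY
    by_cases hX : φ' ∈ B.X
    · have a1 := B.diffX φ' hX (l : ZMod p) (Units.ne_zero l)
      have a2 := B.diffX φ' hX (k' : ZMod p) (Units.ne_zero k')
      rcases B.hδ with e | e <;> omega
    · have a1 := B.out φ' hov hX hY (l : ZMod p)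
      rcases B.hδ with e | e <;> omega
  exact B.agree φ' hY _ (B.mem_ζ l) g hg

include hK h3 hm hmc in
theorem rat_X {χ : IrrCharacter G} (hχ : χ ∈ B.X)
    (huniq : ∀ φ ∈ B.X, charDegree (φ : G → ℂ) = charDegree (χ : G → ℂ) → φ = χ) : Rat (χ : G → ℂ) m := by
  refine rat_of_agree hK hm hmc χ (B.ov χ (Or.inl hχ)) fun φ' hov hnP hdeg g _ => ?_
  have e1 := B.diffX χ hχ 1 one_ne_zero
  have hX : φ' ∈ B.X := by
    by_contra hX
    by_cases hY : φ' ∈ B.Y
    · obtain ⟨l, rfl⟩ := (B.mem_Y φ').1 hY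
      obtain ⟨k', hk'⟩ := Members.exists_off h3 l
      have a1 := B.diffY l (k' : ZMod p)
      rw [if_neg hk', hnP, hnP] at a1
      have a2 := B.diffX χ hχ (k' : ZMod p) (Units.ne_zero k')
      rcases B.sgn_X χ hχ with e | e <;> omega
    · have a1 := B.out φ' hov hX hY 1
      rw [hnP, hnP] at a1
      rcases B.sgn_X χ hχ with e | e <;> omega
  rw [huniq φ' hX hdeg]

end CfsgLib.Char.FeitDegree.Sixteen
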