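import Cfsg.Agent.Lib.Char.FeitDegree.Sixteen.Galois
import Cfsg.Agent.Lib.Char.FeitDegree.Index.Exact

/-!
# Degree `16` at `p = 19`: the primes `11` and `13`

An element `y` of order `q` has the value `16 - q`, so the character is faithful on a centralizer
containing an element of order `16 - q` besides `y`.
-/

set_option autoImplicit false

open scoped Classical ComplexConjugate

namespace CfsgLib.Char.FeitDegree.Sixteen

open Cfsg CfsgLib CfsgLib.Blocks CfsgLib.Blocks.DefectOne CfsgLib.CharDeep.ExactP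
open CfsgLib.Char.DegHalf (Over)
open Setup Weight Block

universe u

variable {G : Type u} [Group G] [Fintype G] {p : ℕ} [hp : Fact p.Prime] {P : Sylow p G}

/-- The residual configuration. -/
structure Data (D : Frame P) (ζ : IrrCharacter G) (θ : IrrCharacter D.K0) (c : (ZMod p)ˣ) : Prop where
  p_eq : p = 19
  e_eq : Nat.card D.act.range = 3
  minus : Minus D ζ θ c
  faith : ∀ g : G, (ζ : G → ℂ) g = (ζ : G → ℂ) 1 → g = 1
  nn : ¬ (P : Subgroup G).Normal
  z16 : ∀ z ∈ Subgroup.center G, z ^ 16 = 1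
  linear : ∀ φ : IrrCharacter G, charDegree (φ : G → ℂ) = 1 → φ = DegreeTools.oneChar G

namespace Data

variable {D : Frame P} {ζ : IrrCharacter G} {θ : IrrCharacter D.K0} {c : (ZMod p)ˣ} (S : Data D ζ θ c)
include S

theorem h3 : 3 * Nat.card D.act.range ≤ p - 1 := by rw [S.e_eq, S.p_eq]; norm_num

theorem deg : charDegree (ζ : G → ℂ) = 16 := by
  have h := S.minus.deg
  rw [S.e_eq] at h
  have := S.p_eq
  omega

theorem hd : charDegree (ζ : G → ℂ) + 2 ≤ p := by rw [S.deg, S.p_eq]; norm_num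

theorem apply_one : (ζ : G → ℂ) 1 = 16 := by rw [irr_one_eq, S.deg]; norm_num

theorem eq_one_of_center {z : G} (hz : z ∈ Subgroup.center G) {m : ℕ} (hm : m.Coprime 16) (hzm : z ^ m = 1) :
    z = 1 :=
  orderOf_eq_one_iff.1
    (Nat.eq_one_of_dvd_coprimes hm (orderOf_dvd_of_pow_eq_one hzm) (orderOf_dvd_of_pow_eq_one (S.z16 z hz)))

theorem coprime_center {m : ℕ} (hm : m.Coprime 16) (h19 : ¬ 19 ∣ m) : (p * Nat.card D.K0).Coprime m := by
  refine Nat.Coprime.mul_left ((Nat.Prime.coprime_iff_not_dvd hp.out).2 (S.p_eq ▸ h19)) ?_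
  refine Nat.coprime_of_dvd fun k hk h1 h2 => ?_
  haveI := Fact.mk hk
  obtain ⟨z, hz⟩ := exists_prime_orderOf_dvd_card' k h1
  have hzc : (z : G) ∈ Subgroup.center G := S.minus.K0_eq ▸ z.2
  have h3 : k ∣ 16 := by
    rw [← hz, ← Subgroup.orderOf_coe]
    exact orderOf_dvd_of_pow_eq_one (S.z16 _ hzc)
  exact hk.ne_one (Nat.eq_one_of_dvd_coprimes hm h2 h3)

theorem rat_Y {μ : IrrCharacter D.K0} (B : Blk D μ) {η : IrrCharacter G} (hη : η ∈ B.Y) {m : ℕ} (hm : m.Coprime 16)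
    (h19 : ¬ 19 ∣ m) : Rat (η : G → ℂ) m :=
  Sixteen.rat_Y B S.minus.K0_eq S.h3 (Nat.pos_of_ne_zero fun e => h19 (by rw [e]; exact dvd_zero _)) (S.coprime_center hm h19) hη

theorem rat_X {μ : IrrCharacter D.K0} (B : Blk D μ) {χ : IrrCharacter G} (hχ : χ ∈ B.X)
    (huniq : ∀ φ ∈ B.X, charDegree (φ : G → ℂ) = charDegree (χ : G → ℂ) → φ = χ) {m : ℕ} (hm : m.Coprime 16)
    (h19 : ¬ 19 ∣ m) : Rat (χ : G → ℂ) m :=
  Sixteen.rat_X B S.minus.K0_eq S.h3 (Nat.pos_of_ne_zero fun e => h19 (by rw [e]; exact dvd_zero _)) (S.coprime_center hm h19) hχ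
    huniq

theorem rat_zeta {m : ℕ} (hm : m.Coprime 16) (h19 : ¬ 19 ∣ m) : Rat (ζ : G → ℂ) m := by
  obtain ⟨B⟩ := exists_blk S.minus.K0_eq S.h3 S.minus.theta_one
  obtain ⟨-, l, hl, -⟩ := Members.mem S.h3 S.minus B
  exact S.rat_Y B (hl ▸ B.mem_ζ l) hm h19

/-- A character not trivial on `P` is faithful on elements of order prime to `2`. -/
theorem eq_one_of_ker (φ : IrrCharacter G) (hx : D.x ∉ charKer (isCharacter_irr φ)) {g : G}
    (hg : (φ : G → ℂ) g = (φ : G → ℂ) 1) {m : ℕ} (hm : m.Coprime 16) (hgm : g ^ m = 1) : g = 1 := by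
  haveI := charKer_normal (isCharacter_irr φ)
  refine S.eq_one_of_center (S.minus.K0_eq ▸ ?_) hm hgm
  exact Kernel.le_K0 (isCharacter_irr ζ) S.faith S.hd hx ((mem_charKer _).2 hg)

/-- No Sylow subgroup for another odd prime is normal. -/
theorem sylow_not_normal {q : ℕ} [hq : Fact q.Prime] (hq2 : q.Coprime 16) (hq19 : q ≠ 19) (hdvd : q ∣ Nat.card G)
    (R : Sylow q G) : ¬ (R : Subgroup G).Normal := by
  intro hR
  haveI := hR
  have hxR : D.x ∉ (R : Subgroup G) := fun h => by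
    obtain ⟨k, hk⟩ := R.2 ⟨D.x, h⟩
    have h1 : D.x ^ q ^ k = 1 := congrArg Subtype.val hk
    have h2 := orderOf_dvd_of_pow_eq_one h1
    rw [D.ord] at h2
    exact hq19 ((Nat.prime_dvd_prime_iff_eq hp.out hq.out).1 (hp.out.dvd_of_dvd_pow h2) ▸ S.p_eq)
  have hle := Kernel.le_K0 (isCharacter_irr ζ) S.faith S.hd (D := D) hxR
  obtain ⟨y, hy⟩ := exists_prime_orderOf_dvd_card' (G := (R : Subgroup G)) q (R.dvd_card_of_dvd_card hdvd)
  have h1 : (y : G) = 1 := S.eq_one_of_center (S.minus.K0_eq ▸ hle y.2) hq2 (by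
    exact orderOf_dvd_iff_pow_eq_one.1 (by rw [Subgroup.orderOf_coe, hy]))
  rw [← Subgroup.orderOf_coe, h1, orderOf_one] at hy
  exact hq.out.one_lt.ne hy

/-- No prime above `33` other than `19` divides the order. -/
theorem not_dvd_of_big {q : ℕ} [hq : Fact q.Prime] (h33 : 33 < q) : ¬ q ∣ Nat.card G := fun hdvd => by
  obtain ⟨R⟩ : Nonempty (Sylow q G) := inferInstance
  refine S.sylow_not_normal ?_ (by omega) hdvd R (Index.normal_of_small (isCharacter_irr ζ) S.faith (by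
    rw [S.deg]; omega) R)
  refine (Nat.Prime.coprime_iff_not_dvd hq.out).2 fun h => ?_
  have := Nat.le_of_dvd (by norm_num) h
  omega

/-- Elements of odd order prime to `19` have regular centralizers. -/
theorem regular_of_commute {y g : G} {m : ℕ} (hm : m.Coprime 16) (h19 : ¬ 19 ∣ m) (hy : y ≠ 1) (hym : y ^ m = 1)
    (hc : Commute g y) : ¬ p ∣ orderOf g := by
  intro hdvd
  set w := g ^ (orderOf g / p)
  have hw : orderOf w = p := orderOf_pow_orderOf_div (orderOf_pos g).ne' hdvd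
  obtain ⟨u, hu⟩ := Index.exists_conj_sylow (P := P) (show Nat.card P = p from D.card_P) hw
  have hx : D.x ∈ (Subgroup.zpowers w).map (MulAut.conj u).toMonoidHom := hu ▸ D.x_mem
  obtain ⟨z, hz, hzx⟩ := hx
  obtain ⟨i, rfl⟩ := hz
  have hcyx : Commute (u * y * u⁻¹) D.x := by
    rw [← hzx]
    exact (((hc.pow_left _).zpow_left i).symm.map (MulAut.conj u).toMonoidHom)
  have hym' : (u * y * u⁻¹) ^ m = 1 := by rw [_root_.conj_pow, hym, mul_one, mul_inv_cancel]
  have hK : u * y * u⁻¹ ∈ Subgroup.center G := S.minus.K0_eq ▸ (D.mem_K0 _).2 ⟨hcyx, fun h =>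
    h19 (S.p_eq ▸ h.trans (orderOf_dvd_of_pow_eq_one hym'))⟩
  have h1 := S.eq_one_of_center hK hm hym'
  exact hy (by simpa using h1)

variable {q : ℕ} [hq : Fact q.Prime] (hq1 : q = 11 ∨ q = 13)
include hq1

omit [Fintype G] hp hq S in
theorem q_facts : q.Coprime 16 ∧ (q ^ 2).Coprime 16 ∧ ¬ 19 ∣ q ∧ ¬ 19 ∣ q ^ 2 := by
  rcases hq1 with rfl | rfl <;> norm_num

/-- The value at an element of order `q`. -/
theorem value {y : G} (hy : orderOf y = q) : (ζ : G → ℂ) y = ((16 - q : ℕ) : ℂ) := by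
  obtain ⟨hc, -, h19, -⟩ := q_facts hq1
  have hy1 : y ^ q = 1 := by rw [← hy]; exact pow_orderOf_eq_one y
  obtain ⟨n, hn, hle⟩ := exists_prime_value (isCharacter_irr ζ) hq.out hy fun k hk =>
    S.rat_zeta hc h19 y hy1 k ((Nat.Prime.coprime_iff_not_dvd hq.out).2 hk).symm
  rw [S.deg] at hn hle
  match n, hn, hle with
  | 0, hn, _ =>
    refine absurd (S.faith y (by rw [hn, S.apply_one]; simp)) fun e => ?_
    rw [e, orderOf_one] at hy
    exact hq.out.one_lt.ne hy
  | 1, hn, _ =>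
    rw [hn, Nat.cast_sub (by omega)]
    push_cast
    ring
  | k + 2, _, hle =>
    exfalso
    have : (q - 1) * 2 ≤ (q - 1) * (k + 2) := Nat.mul_le_mul_left _ (by omega)
    omega

/-- The exponent of a `q`-subgroup is `q`. -/
theorem pow_eq_one {y : G} (hy : y ^ q ^ 2 = 1) : y ^ q = 1 := by
  obtain ⟨hc, hc2, h19, h192⟩ := q_facts hq1
  by_contra hne
  have hord : orderOf y = q ^ 2 := orderOf_eq_prime_pow (by simpa using hne) (by simpa using hy)
  have hq0 := hq.out.pos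
  set W := (ζ : G → ℂ) (y ^ q)
  have hval : ∀ k < orderOf y, (ζ : G → ℂ) (y ^ k) = (ζ : G → ℂ) y + (if q ∣ k then W - (ζ : G → ℂ) y else 0) +
      (if q ∣ k then 0 else 0) + if orderOf y ∣ k then 16 - W else 0 := by
    intro k hk
    by_cases h1 : q ∣ k
    · by_cases h2 : orderOf y ∣ k
      · rw [Nat.eq_zero_of_dvd_of_lt h2 hk, pow_zero, S.apply_one]; simp
      · obtain ⟨i, rfl⟩ := h1
        have hi : ¬ q ∣ i := fun h => h2 (by rw [hord, sq]; exact mul_dvd_mul_left q h)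
        rw [pow_mul, S.rat_zeta hc h19 (y ^ q) (by rw [← pow_mul, ← sq]; exact hy) i
          ((Nat.Prime.coprime_iff_not_dvd hq.out).2 hi).symm]
        simp [h2, W]
    · have h2 : ¬ orderOf y ∣ k := fun h => h1 ((hord ▸ dvd_pow_self q two_ne_zero).trans h)
      rw [S.rat_zeta hc2 h192 y hy k (((Nat.Prime.coprime_iff_not_dvd hq.out).2 h1).symm.pow_right 2)]
      simp [h1, h2]
  have hcnt : ∀ a ∈ prim (q ^ 2), cnt (ζ : G → ℂ) y a = 16 - W := by
    intro a ha
    have hp' := (mem_prim (pow_pos hq0 2)).1 ha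
    rw [cnt_formula hq0 hq0 (hord ▸ dvd_pow_self q two_ne_zero) (hord ▸ dvd_pow_self q two_ne_zero) hval
      (by rw [hord]; exact hp'.pow_eq_one)]
    have h1 : a ≠ 1 := hp'.ne_one (Nat.one_lt_pow two_ne_zero hq.out.one_lt)
    have h2 : a ^ q ≠ 1 := fun h => by
      have := Nat.le_of_dvd hq0 (hp'.dvd_of_pow_eq_one q h)
      nlinarith [hq.out.two_le]
    simp [h1, h2]
  obtain ⟨a, ha⟩ := exists_prim (pow_pos hq0 2)
  have ha' : a ∈ prim (q ^ 2) := (mem_prim (pow_pos hq0 2)).2 ha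
  obtain ⟨N, -, hN⟩ := exists_cnt (isCharacter_irr ζ) y (a := a) (by rw [hord]; exact ha.pow_eq_one)
  have hb := cnt_bound (isCharacter_irr ζ) y (prim (q ^ 2)) (fun b hb => by
    rw [hord]; exact ((mem_prim (pow_pos hq0 2)).1 hb).pow_eq_one) (N := N) fun b hb => by
    rw [hcnt b hb, ← hcnt a ha', hN]
  rw [card_prim, Nat.totient_prime_pow hq.out two_pos, S.deg] at hb
  have hN0 : N = 0 := by rcases hq1 with rfl | rfl <;> norm_num at hb <;> omega
  have hW := hcnt a ha'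
  rw [hN, hN0, Nat.cast_zero, mul_zero] at hW
  exact hne (S.faith (y ^ q) (by rw [S.apply_one]; linear_combination hW))

/-- A Sylow `q`-subgroup has order at most `q`. -/
theorem not_sq_dvd : ¬ q ^ 2 ∣ Nat.card G := by
  intro h
  obtain ⟨R, hR⟩ := Sylow.exists_subgroup_card_pow_prime q h
  obtain ⟨m, hm⟩ := IsCharacter.classInner_nat (IsCharacter.restrict (isCharacter_irr ζ) R) isCharacter_one
  rw [classInner_fun_one_right, inv_mul_eq_iff_eq_mul₀ Char.card_ne_zero,
    ← Finset.add_sum_erase _ _ (Finset.mem_univ (1 : R)), Finset.sum_congr rfl (g := fun _ => ((16 - q : ℕ) : ℂ))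
      fun r hr => ?_, Finset.sum_const, Finset.card_erase_of_mem (Finset.mem_univ _), Finset.card_univ,
    ← Nat.card_eq_fintype_card, hR, OneMemClass.coe_one, S.apply_one, nsmul_eq_mul] at hm
  · have h1 : 16 + (q ^ 2 - 1) * (16 - q) = q ^ 2 * m := by exact_mod_cast hm
    rcases hq1 with rfl | rfl <;> norm_num at h1 <;> omega
  · have h2 : (r : G) ^ q ^ 2 = 1 := by
      rw [← hR]
      exact congrArg Subtype.val (pow_card_eq_one' (x := r))
    exact S.value hq1 (orderOf_eq_prime (S.pow_eq_one hq1 h2) fun e => Finset.ne_of_mem_erase hr (Subtype.ext e))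

/-- A second element in the centralizer. -/
theorem exists_local (hdvd : q ∣ Nat.card G) :
    ∃ y v : G, orderOf y = q ∧ orderOf v = 16 - q ∧ Commute y v ∧
      ∀ φ : IrrCharacter G, q ∣ charDegree (φ : G → ℂ) → ∀ k : ℕ, ¬ q ∣ k → (φ : G → ℂ) ((y * v) ^ k) = 0 := by
  obtain ⟨hc, -, h19, -⟩ := q_facts hq1
  obtain ⟨R⟩ : Nonempty (Sylow q G) := inferInstance
  have hRc : Nat.card R = q := by
    obtain ⟨k, hk⟩ := IsPGroup.iff_card.1 R.2
    have h0 := R.dvd_card_of_dvd_card hdvd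
    match k, hk with
    | 0, hk =>
      rw [hk, pow_zero] at h0
      exact absurd h0 hq.out.not_dvd_one
    | 1, hk => rw [pow_one] at hk; exact hk
    | k + 2, hk =>
      exact absurd ((hk ▸ pow_dvd_pow q (by omega) : q ^ 2 ∣ Nat.card R).trans (Subgroup.card_subgroup_dvd_card _))
        (S.not_sq_dvd hq1)
  obtain ⟨D'⟩ := exists_frame R hRc
  set L := 16 - q with hL
  have hL5 : L = 5 ∨ L = 3 := by rcases hq1 with rfl | rfl <;> simp [hL]
  have hLp : L.Prime := by rcases hL5 with e | e <;> rw [e] <;> norm_num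
  have hval : ∀ η : IrrCharacter G, (∀ g : G, ¬ p ∣ orderOf g → (η : G → ℂ) g = (ζ : G → ℂ) g) →
      ∀ θ' k, mult D' θ' η k = mult D' θ' ζ k := by
    intro η hη θ' k
    apply Nat.cast_injective (R := ℂ)
    rw [← mult_spec, ← mult_spec]
    congr 1
    funext g
    refine hη g (S.regular_of_commute hc h19 (fun e => ?_) (orderOf_dvd_iff_pow_eq_one.1 D'.ord.dvd)
      ((D'.mem_cent_iff g).1 g.2))
    have := D'.ord
    rw [e, orderOf_one] at this
    exact hq.out.one_lt.ne this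
  have hnP : (fun k => (nP D' ζ k : ℂ)) = fun k => if k = 0 then (L : ℂ) + 1 else 1 := by
    refine coeff_unique fun a => ?_
    rw [← apply_xpow, Finset.sum_congr rfl (g := fun k : ZMod q => (if k = 0 then (L : ℂ) else 0) *
      ZMod.stdAddChar (k * a) + ZMod.stdAddChar (k * a)) fun k _ => by split_ifs <;> ring, Finset.sum_add_distrib,
      Finset.sum_eq_single (0 : ZMod q) (fun k _ hk => by rw [if_neg hk, zero_mul])
        (fun h => absurd (Finset.mem_univ _) h), if_pos rfl, zero_mul, AddChar.map_zero_eq_one, mul_one, Frame.sum_std]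
    split_ifs with ha
    · rw [ha, ZMod.val_zero, pow_zero, S.apply_one, ← Nat.cast_add, show L + q = 16 by omega]
      norm_num
    · rw [S.value hq1 (D'.orderOf_xpow ha), add_zero]
  have hn0 : nP D' ζ 0 = L + 1 := by
    have := congrFun hnP 0
    simp only [if_true] at this
    exact_mod_cast this
  have hn1 : nP D' ζ 1 = 1 := by
    have := congrFun hnP 1
    simp only [one_ne_zero, if_false] at this
    exact_mod_cast this
  have htot : ∑ θ', (fdeg D' θ' : ℤ) * D'.diff θ' 1 ζ = L := by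
    rw [show (L : ℤ) = (nP D' ζ 0 : ℤ) - nP D' ζ 1 by rw [hn0, hn1]; push_cast; ring, nP, nP, Nat.cast_sum,
      Nat.cast_sum, ← Finset.sum_sub_distrib]
    exact Finset.sum_congr rfl fun θ' _ => by rw [diff_eq]; push_cast; ring
  have hconst : ∀ θ', IsConst D' θ' ζ → D'.diff θ' 1 ζ = 0 := fun θ' h => by rw [diff_eq, h 1, sub_self]
  obtain ⟨θ₀, hθ₀⟩ : ∃ θ₀, ¬ IsConst D' θ₀ ζ := by
    by_contra hall
    push Not at hall
    rw [Finset.sum_eq_zero fun θ' _ => by rw [hconst θ' (hall θ'), mul_zero]] at htot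
    omega
  set O := D'.orb θ₀
  set f := fdeg D' θ₀
  have hf : ∀ θ' ∈ O, fdeg D' θ' = f ∧ mult D' θ' ζ 0 = mult D' θ₀ ζ 0 ∧
      Nat.card (D'.autE θ') = Nat.card (D'.autE θ₀) := by
    intro θ' hθ'
    have h1 := D'.card_orb_mul θ'
    rw [D'.orb_eq_of_mem hθ'] at h1
    have h2 := mul_left_cancel₀ (Finset.card_pos.2 ⟨θ₀, D'.self_mem_orb θ₀⟩).ne' (h1.trans (D'.card_orb_mul θ₀).symm)
    obtain ⟨g, rfl⟩ := D'.mem_orb.1 hθ'
    exact ⟨fdeg_tw D' θ₀ g, by rw [mult_tw, zero_mul], h2⟩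
  have horb : (f : ℤ) * ∑ θ' ∈ O, D'.diff θ' 1 ζ = L := by
    rw [← htot, ← Finset.sum_subset (Finset.subset_univ O) fun θ' _ hθ' => by
      rw [hconst θ' (by by_contra h; exact hθ' (mem_orb_of_not_isConst D' hθ₀ h)), mul_zero], Finset.mul_sum]
    exact Finset.sum_congr rfl fun θ' hθ' => by rw [(hf θ' hθ').1]
  have hfdvd : f ∣ L := Int.natCast_dvd_natCast.1 ⟨_, horb.symm⟩
  have hfL : f = L := by
    rcases (Nat.dvd_prime hLp).1 hfdvd with h1 | h1
    swap
    · exact h1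
    exfalso
    rw [h1, Nat.cast_one, one_mul] at horb
    -- the orbit is short
    have hm0 : 1 ≤ mult D' θ₀ ζ 0 := by
      by_contra h0
      have : ∑ θ' ∈ O, D'.diff θ' 1 ζ ≤ 0 := Finset.sum_nonpos fun θ' hθ' => by
        rw [diff_eq, (hf θ' hθ').2.1]
        omega
      have := hLp.pos
      omega
    have hr : O.card ≤ L + 1 := by
      rw [← hn0, nP]
      refine le_trans ?_ (Finset.sum_le_sum_of_subset (Finset.subset_univ O))
      refine le_trans (le_of_eq (Finset.card_eq_sum_ones O)) (Finset.sum_le_sum fun θ' hθ' => ?_)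
      rw [(hf θ' hθ').1, h1, (hf θ' hθ').2.1, one_mul]
      exact hm0
    -- six characters share it
    obtain ⟨B⟩ := exists_blk S.minus.K0_eq S.h3 S.minus.theta_one
    obtain ⟨-, l, hl, -⟩ := Members.mem S.h3 S.minus B
    have hY : B.Y.card = 6 := by
      have h := B.card_Y_mul
      rw [S.e_eq] at h
      have := S.p_eq
      omega
    have hsame : ∀ η ∈ B.Y, ∑ θ' ∈ O, D'.diff θ' 1 η * D'.diff θ' 1 η = ∑ θ' ∈ O, D'.diff θ' 1 ζ * D'.diff θ' 1 ζ := by
      intro η hη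
      have hag : ∀ g : G, ¬ p ∣ orderOf g → (η : G → ℂ) g = (ζ : G → ℂ) g := fun g hg => by
        rw [← hl]; exact B.agree η hη _ (B.mem_ζ l) g hg
      exact Finset.sum_congr rfl fun θ' _ => by rw [diff_eq, diff_eq, hval η hag, hval η hag]
    have hbound : (6 : ℤ) * ∑ θ' ∈ O, D'.diff θ' 1 ζ * D'.diff θ' 1 ζ
        ≤ (O.card : ℤ) * ((Nat.card (D'.autE θ₀) : ℤ) + 1) := by
      calc (6 : ℤ) * ∑ θ' ∈ O, D'.diff θ' 1 ζ * D'.diff θ' 1 ζ
          = ∑ η ∈ B.Y, ∑ θ' ∈ O, D'.diff θ' 1 η * D'.diff θ' 1 η := by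
            rw [Finset.sum_congr rfl hsame, Finset.sum_const, hY, nsmul_eq_mul]; norm_num
        _ ≤ ∑ η : IrrCharacter G, ∑ θ' ∈ O, D'.diff θ' 1 η * D'.diff θ' 1 η :=
            Finset.sum_le_sum_of_subset_of_nonneg (Finset.subset_univ _) fun η _ _ =>
              Finset.sum_nonneg fun θ' _ => mul_self_nonneg _
        _ = _ := by
            rw [Finset.sum_comm, Finset.sum_congr rfl (g := fun _ => (Nat.card (D'.autE θ₀) : ℤ) + 1) fun θ' hθ' => ?_,
              Finset.sum_const, nsmul_eq_mul]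
            have h := D'.sum_diff_mul θ' 1 1
            rw [Units.val_one, inv_one, one_mul, if_pos (one_mem _), (hf θ' hθ').2.2] at h
            exact h
    have hlow : (L : ℤ) ≤ ∑ θ' ∈ O, D'.diff θ' 1 ζ * D'.diff θ' 1 ζ := by
      rw [← horb]
      refine Finset.sum_le_sum fun θ' _ => ?_
      nlinarith [mul_self_nonneg (D'.diff θ' 1 ζ), mul_self_nonneg (D'.diff θ' 1 ζ - 1)]
    have he : O.card * (Nat.card (D'.autE θ₀) + 1) ≤ 16 := by
      rw [mul_add, mul_one, D'.card_orb_mul θ₀]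
      have := (range_pos_lt D').2
      omega
    have he' : (O.card : ℤ) * ((Nat.card (D'.autE θ₀) : ℤ) + 1) ≤ 16 := by exact_mod_cast he
    have hL3 : (3 : ℤ) ≤ L := by omega
    linarith
  have hdvdK : L ∣ Nat.card D'.K0 := hfL ▸ charDegree_dvd θ₀
  haveI := Fact.mk hLp
  obtain ⟨v, hv⟩ := exists_prime_orderOf_dvd_card' (G := D'.K0) L hdvdK
  refine ⟨D'.x, (v : G), D'.ord, by rw [Subgroup.orderOf_coe]; exact hv, (D'.commute_x v.2).symm, fun φ hφ k hk => ?_⟩
  rw [(D'.commute_x v.2).symm.mul_pow, ← D'.xpow_eq, ← SubmonoidClass.coe_pow, ← D'.coe_el, D'.apply_mk]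
  obtain ⟨M₀, hM⟩ := exists_isPModular hq.out
  refine Finset.sum_eq_zero fun θ' _ => ?_
  rw [sec_eq_zero_of_isConst D' ?_ (by rwa [Ne, ZMod.natCast_eq_zero_iff]), zero_mul]
  by_contra hnc
  obtain ⟨B', hB'⟩ := D'.exists_induced hM θ'
  obtain ⟨S'⟩ := exists_shape D' hM hB'
  exact S'.not_dvd_degree (mem_induced D' hM hnc hB') hφ

end Data

end CfsgLib.Char.FeitDegree.Sixteen
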