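import Cfsg.Agent.Lib.Char.FeitDegree.Sixteen.Pair
import Cfsg.Agent.Lib.Char.FeitDegree.Index.Core
import Cfsg.Agent.Lib.Char.FeitDegree.StageOne

/-!
# Degree `16` at `p = 19` is impossible

The principal block has exceptional degree `22` or `60`; the primes `11` and `13` give too many
eigenvalues.
-/

set_option autoImplicit false

open scoped Classical ComplexConjugate

namespace CfsgLib.Char.FeitDegree.Sixteen

open Cfsg CfsgLib CfsgLib.Blocks CfsgLib.Blocks.DefectOne CfsgLib.CharDeep.ExactP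
open CfsgLib.Char.DegHalf (Over conj_linear_mul)
open Setup Weight Block Pieces StageOne

universe u

variable {G : Type u} [Group G] [Fintype G] {p : ℕ} [hp : Fact p.Prime] {P : Sylow p G}

namespace Data

variable {D : Frame P} {ζ : IrrCharacter G} {θ : IrrCharacter D.K0} {c : (ZMod p)ˣ} (S : Data D ζ θ c)
include S

/-- The exceptional degree is not `22`. -/
theorem not_twentyTwo (B : Blk D (triv D)) : charDegree (B.ζ 1 : G → ℂ) ≠ 22 := by
  intro h22
  haveI : Fact (Nat.Prime 11) := ⟨by norm_num⟩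
  have hdvd : 11 ∣ Nat.card G := (show 11 ∣ 22 by norm_num).trans (h22 ▸ charDegree_dvd (B.ζ 1))
  obtain ⟨y, v, hy, hv, hc, hvan⟩ := S.exists_local (Or.inl rfl) hdvd
  norm_num at hv
  set g := y * v
  have hg : orderOf g = 55 := by
    rw [hc.orderOf_mul_eq_mul_orderOf_of_coprime (by rw [hy, hv]; norm_num), hy, hv]
  have hv5 : v ^ 5 = 1 := orderOf_dvd_iff_pow_eq_one.1 hv.dvd
  set η := B.ζ 1
  have hr : Rat (η : G → ℂ) 5 := S.rat_Y B (B.mem_ζ 1) (m := 5) (by norm_num) (by norm_num)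
  have hval : ∀ k < orderOf g, (η : G → ℂ) (g ^ k) = 0 + (if 11 ∣ k then (η : G → ℂ) v else 0) +
      (if 11 ∣ k then 0 else 0) + if orderOf g ∣ k then (22 : ℂ) - (η : G → ℂ) v else 0 := by
    intro k hk
    rw [hg] at hk ⊢
    by_cases h1 : 11 ∣ k
    · by_cases h2 : 55 ∣ k
      · rw [Nat.eq_zero_of_dvd_of_lt h2 hk, pow_zero, irr_one_eq, show charDegree (η : G → ℂ) = 22 from h22]
        simp
      · rw [(pow_pair hy hv hc).1 h1, hr v hv5 k
          ((Nat.Prime.coprime_iff_not_dvd (by norm_num : Nat.Prime 5)).2 (by omega)).symm]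
        simp [h1, h2]
    · rw [hvan η (by rw [show charDegree (η : G → ℂ) = 22 from h22]; norm_num) k h1]
      simp [h1, show ¬ 55 ∣ k by omega]
  have hcnt : ∀ a ∈ prim 55, cnt (η : G → ℂ) g a = 22 - (η : G → ℂ) v := by
    intro a ha
    have hp' := (mem_prim (by norm_num : 0 < 55)).1 ha
    rw [cnt_formula (by norm_num) (by norm_num) (by rw [hg]; norm_num) (by rw [hg]; norm_num) hval
      (by rw [hg]; exact hp'.pow_eq_one)]
    have h1 : a ^ 11 ≠ 1 := hp'.pow_ne_one_of_pos_of_lt (by norm_num) (by norm_num)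
    simp [h1]
  obtain ⟨a, ha⟩ := exists_prim (by norm_num : 0 < 55)
  have ha' : a ∈ prim 55 := (mem_prim (by norm_num)).2 ha
  obtain ⟨N, -, hN⟩ := exists_cnt (isCharacter_irr η) g (a := a) (by rw [hg]; exact ha.pow_eq_one)
  have hb := cnt_bound (isCharacter_irr η) g (prim 55) (fun b hb => by
    rw [hg]; exact ((mem_prim (by norm_num)).1 hb).pow_eq_one) (N := N) fun b hb => by
    rw [hcnt b hb, ← hcnt a ha', hN]
  rw [card_prim, show Nat.totient 55 = Nat.totient (11 * 5) from rfl, Nat.totient_mul (by norm_num),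
    Nat.totient_prime (by norm_num : Nat.Prime 11), Nat.totient_prime (by norm_num : Nat.Prime 5),
    show charDegree (η : G → ℂ) = 22 from h22] at hb
  have hW := hcnt a ha'
  rw [hN, show N = 0 by omega, Nat.cast_zero, mul_zero] at hW
  have h1 : v = 1 := S.eq_one_of_ker η (B.x_notMem_ker S.h3 1) (g := v) (m := 5) (by
    rw [irr_one_eq, show charDegree (η : G → ℂ) = 22 from h22]; push_cast; linear_combination hW)
    (by norm_num) hv5
  rw [h1, orderOf_one] at hv
  omega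

omit hp S in
theorem sum_pow_conj {a : ℂ} (ha : IsPrimitiveRoot a 3) : ∑ k ∈ Finset.range 39, conj a ^ k = 0 := by
  have h1 : conj a ≠ 1 := fun e => ha.ne_one (by norm_num) (by simpa using congrArg conj e)
  rw [geom_sum_eq h1, show (39 : ℕ) = 3 * 13 from rfl, pow_mul, ← map_pow, ha.pow_eq_one, map_one, one_pow, sub_self,
    zero_div]

/-- The exceptional degree `60` with nonexceptional degrees `20` and `39`. -/
theorem sixty_core (B : Blk D (triv D)) {χ₁ χ₂ : IrrCharacter G} (hne1 : charDegree (χ₁ : G → ℂ) = 20)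
    (hne2 : charDegree (χ₂ : G → ℂ) = 39) (hX : B.X = {DegreeTools.oneChar G, χ₁, χ₂})
    (hrel : ∀ η ∈ B.Y, ∀ g : G, ¬ p ∣ orderOf g → (η : G → ℂ) g = 1 + (χ₁ : G → ℂ) g + (χ₂ : G → ℂ) g)
    {m : IrrCharacter G → ℕ}
    (hexp : ∀ g, (ζ : G → ℂ) g * conj ((ζ : G → ℂ) g) = ∑ φ, (m φ : ℂ) * (φ : G → ℂ) g)
    (hY : B.numY m = 2) (hsum : m χ₁ + m χ₂ = 2) : False := by
  haveI : Fact (Nat.Prime 13) := ⟨by norm_num⟩
  have hdvd : 13 ∣ Nat.card G := (show 13 ∣ 39 by norm_num).trans (hne2 ▸ charDegree_dvd χ₂)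
  obtain ⟨y, v, hy, hv, hc, hvan⟩ := S.exists_local (Or.inr rfl) hdvd
  norm_num at hv
  obtain ⟨a, ha⟩ := exists_prim (by norm_num : 0 < 3)
  have hone : charDegree (DegreeTools.oneChar G : G → ℂ) = 1 := DegreeTools.deg_oneChar
  have hne : χ₁ ≠ χ₂ := fun e => by rw [e, hne2] at hne1; omega
  have hmem1 : χ₁ ∈ B.X := by rw [hX]; simp
  have hmem2 : χ₂ ∈ B.X := by rw [hX]; simp
  have hu1 : ∀ φ ∈ B.X, charDegree (φ : G → ℂ) = charDegree (χ₁ : G → ℂ) → φ = χ₁ := fun φ hφ h => by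
    rw [hX] at hφ
    simp only [Finset.mem_insert, Finset.mem_singleton] at hφ
    rcases hφ with rfl | rfl | rfl <;> first | rfl | omega
  have hu2 : ∀ φ ∈ B.X, charDegree (φ : G → ℂ) = charDegree (χ₂ : G → ℂ) → φ = χ₂ := fun φ hφ h => by
    rw [hX] at hφ
    simp only [Finset.mem_insert, Finset.mem_singleton] at hφ
    rcases hφ with rfl | rfl | rfl <;> first | rfl | omega
  obtain ⟨M₁, hM₁, h₁⟩ := S.count_pos B hmem1 hu1 (Or.inl hne1) hy hv hc hvan ha
  obtain ⟨M₂, hM₂, h₂⟩ := S.count_pos B hmem2 hu2 (Or.inr hne2) hy hv hc hvan ha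
  obtain ⟨M, N, hM, hMN⟩ := S.count_square hy hv hc ha
  set g := y * v
  have hg : orderOf g = 39 := by
    rw [hc.orderOf_mul_eq_mul_orderOf_of_coprime (by rw [hy, hv]; norm_num), hy, hv]
  have hreg : ∀ k : ℕ, ¬ p ∣ orderOf (g ^ k) := fun k h => by
    have h1 := h.trans (orderOf_pow_dvd k)
    rw [hg, S.p_eq] at h1
    omega
  have hY' : ∀ η ∈ B.Y, cnt (η : G → ℂ) g a = 39 * ((M₁ + M₂ : ℕ) : ℂ) := by
    intro η hη
    have hs : cnt (η : G → ℂ) g a
        = (∑ k ∈ Finset.range 39, conj a ^ k) + cnt (χ₁ : G → ℂ) g a + cnt (χ₂ : G → ℂ) g a := by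
      simp only [cnt, hg, ← Finset.sum_add_distrib]
      exact Finset.sum_congr rfl fun k _ => by rw [hrel η hη _ (hreg k)]; ring
    rw [hs, sum_pow_conj ha, h₁, h₂]
    push_cast
    ring
  have hnat : ∀ φ : IrrCharacter G, ∃ K : ℕ, cnt (φ : G → ℂ) g a = 39 * (K : ℂ) := fun φ => by
    obtain ⟨K, -, hK⟩ := exists_cnt (isCharacter_irr φ) g (a := a)
      (by rw [hg, show (39 : ℕ) = 3 * 13 from rfl, pow_mul, ha.pow_eq_one, one_pow])
    exact ⟨K, by rw [hK, hg]; norm_num⟩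
  choose K hK using hnat
  have hMK : M = ∑ φ, m φ * K φ := by
    apply Nat.cast_injective (R := ℂ)
    refine mul_left_cancel₀ (show (39 : ℂ) ≠ 0 by norm_num) ?_
    rw [← hM, cnt_sum hexp, Nat.cast_sum, Finset.mul_sum]
    exact Finset.sum_congr rfl fun φ _ => by rw [hK, Nat.cast_mul]; ring
  have hKY : ∀ η ∈ B.Y, K η = M₁ + M₂ := fun η hη =>
    Nat.cast_injective (mul_left_cancel₀ (show (39 : ℂ) ≠ 0 by norm_num) ((hK η).symm.trans (hY' η hη)))
  have hK1 : K χ₁ = M₁ := Nat.cast_injective (mul_left_cancel₀ (show (39 : ℂ) ≠ 0 by norm_num) ((hK χ₁).symm.trans h₁))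
  have hK2 : K χ₂ = M₂ := Nat.cast_injective (mul_left_cancel₀ (show (39 : ℂ) ≠ 0 by norm_num) ((hK χ₂).symm.trans h₂))
  have hlow : ∑ φ ∈ B.Y ∪ {χ₁, χ₂}, m φ * K φ ≤ M := hMK ▸ Finset.sum_le_sum_of_subset (Finset.subset_univ _)
  rw [Finset.sum_union (Finset.disjoint_left.2 fun φ hφ h => by
      simp only [Finset.mem_insert, Finset.mem_singleton] at h
      rcases h with rfl | rfl
      · exact Finset.disjoint_left.1 B.disj hmem1 hφ
      · exact Finset.disjoint_left.1 B.disj hmem2 hφ),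
    Finset.sum_pair hne, Finset.sum_congr rfl fun η hη => by rw [hKY η hη], ← Finset.sum_mul, hK1, hK2] at hlow
  rw [show ∑ η ∈ B.Y, m η = 2 from hY] at hlow
  have h1 := Nat.mul_le_mul_left (m χ₁) hM₁
  have h2 := Nat.mul_le_mul_left (m χ₂) hM₂
  have h6 : 6 ≤ M := by omega
  nlinarith [sq_nonneg ((3 : ℤ) * N - 4)]

/-- The trivial character is nonexceptional with sign `1`. -/
theorem oneChar_mem (B : Blk D (triv D)) (hY : ∀ η ∈ B.Y, charDegree (η : G → ℂ) ≠ 1) :
    DegreeTools.oneChar G ∈ B.X ∧ B.sgn (DegreeTools.oneChar G) = 1 := by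
  set one := DegreeTools.oneChar G
  have h0 : nP D one 0 = 1 := nP_oneChar D
  have h1 : ∀ k : ZMod p, k ≠ 0 → nP D one k = 0 := fun k hk => by
    have h := deg_eq D one
    rw [show charDegree (one : G → ℂ) = 1 from DegreeTools.deg_oneChar,
      ← Finset.add_sum_erase _ _ (Finset.mem_univ (0 : ZMod p)), h0] at h
    have := Finset.single_le_sum (f := fun l => nP D one l) (fun _ _ => Nat.zero_le _)
      (Finset.mem_erase.2 ⟨hk, Finset.mem_univ k⟩)
    omega
  have hov : Over (triv D) (one : G → ℂ) := fun g v => by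
    show (1 : ℂ) = 1 * 1
    rw [one_mul]
  have hX : one ∈ B.X := by
    by_contra hX
    have hYn : one ∉ B.Y := fun h => hY one h DegreeTools.deg_oneChar
    have h := B.out one hov hX hYn 1
    rw [h0, h1 1 one_ne_zero] at h
    omega
  refine ⟨hX, ?_⟩
  have h := B.diffX one hX 1 one_ne_zero
  rw [h0, h1 1 one_ne_zero] at h
  omega

/-- The exceptional degree is not `60`. -/
theorem not_sixty (B : Blk D (triv D)) (hδ : B.δ = 1) : charDegree (B.ζ 1 : G → ℂ) ≠ 60 := by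
  intro h60
  have hYdeg : ∀ η ∈ B.Y, charDegree (η : G → ℂ) = 60 := by
    intro η hη
    obtain ⟨l, rfl⟩ := (B.mem_Y η).1 hη
    have h1 := B.deg_ζ l
    rw [B.nP_zero_eq l 1, ← B.deg_ζ 1, h60] at h1
    exact_mod_cast h1
  obtain ⟨honeX, hone1⟩ := S.oneChar_mem B fun η hη => by rw [hYdeg η hη]; norm_num
  set one := DegreeTools.oneChar G with hone
  have hdeg1 : charDegree (one : G → ℂ) = 1 := DegreeTools.deg_oneChar
  have hcard : B.X.card = 3 := by rw [B.card_X, S.e_eq]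
  obtain ⟨χ₁, χ₂, hne, hpair⟩ := Finset.card_eq_two.1 (show (B.X.erase one).card = 2 by
    rw [Finset.card_erase_of_mem honeX, hcard])
  have hX : B.X = {one, χ₁, χ₂} := by rw [← Finset.insert_erase honeX, hpair]
  have hm1 : χ₁ ∈ B.X.erase one := by rw [hpair]; simp
  have hm2 : χ₂ ∈ B.X.erase one := by rw [hpair]; simp
  have hn1 := Finset.ne_of_mem_erase hm1
  have hn2 := Finset.ne_of_mem_erase hm2
  have hp19 : (p : ℤ) = 19 := by exact_mod_cast S.p_eq
  have hcong : ∀ χ ∈ B.X, (charDegree (χ : G → ℂ) : ℤ) = 19 * nP D χ 0 - 18 * B.sgn χ := by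
    intro χ hχ
    rw [deg_eq D, Nat.cast_sum, ← Finset.add_sum_erase _ _ (Finset.mem_univ (0 : ZMod p)),
      Finset.sum_congr rfl fun k hk => B.diffX χ hχ k (Finset.ne_of_mem_erase hk), Finset.sum_const,
      Finset.card_erase_of_mem (Finset.mem_univ _), Finset.card_univ, ZMod.card, nsmul_eq_mul,
      Nat.cast_sub hp.out.one_le, hp19]
    push_cast
    ring
  -- the relation
  obtain ⟨A, hA, hrel⟩ := B.rel
  have hr1 := hrel _ (B.mem_ζ 1) 1 (by rw [orderOf_one]; exact hp.out.not_dvd_one)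
  rw [hX, Finset.sum_insert (by simp [hn1.symm, hn2.symm]), Finset.sum_pair hne, irr_one_eq, irr_one_eq, irr_one_eq,
    irr_one_eq, h60, hdeg1, hone1] at hr1
  have hlin : 1 + B.sgn χ₁ * charDegree (χ₁ : G → ℂ) + B.sgn χ₂ * charDegree (χ₂ : G → ℂ) + A * 60 = 0 := by
    apply Int.cast_injective (α := ℂ)
    push_cast at hr1 ⊢
    linear_combination hr1
  have hc1 := hcong χ₁ (Finset.mem_of_mem_erase hm1)
  have hc2 := hcong χ₂ (Finset.mem_of_mem_erase hm2)
  have hd1 : charDegree (χ₁ : G → ℂ) ≠ 1 := fun e => hn1 (S.linear χ₁ e)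
  have hd2 : charDegree (χ₂ : G → ℂ) ≠ 1 := fun e => hn2 (S.linear χ₂ e)
  -- the square
  set ψ : G → ℂ := fun g => (ζ : G → ℂ) g * conj ((ζ : G → ℂ) g) with hψ
  have hψc : Cfsg.IsCharacter G ψ := IsCharacter.mul (isCharacter_irr ζ) (IsCharacter.conj' (isCharacter_irr ζ))
  obtain ⟨m, hm, hexp⟩ := IsCharacter.exists_multiplicity hψc
  have hov : Over (triv D) ψ := fun g v => by
    show (ζ : G → ℂ) (g * v) * conj ((ζ : G → ℂ) (g * v)) = 1 * ψ g
    rw [S.minus.ov, map_mul, hψ]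
    linear_combination ((ζ : G → ℂ) g * conj ((ζ : G → ℂ) g)) * conj_linear_mul S.minus.theta_one v
  have hsupp : ∀ φ, m φ ≠ 0 → Over (triv D) (φ : G → ℂ) := fun φ hφ =>
    DegHalf.over_constituent S.minus.K0_eq hov (by rw [hm, Nat.cast_ne_zero]; exact hφ)
  have hmone : m one = 1 := by
    apply Nat.cast_injective (R := ℂ)
    rw [← hm, Nat.cast_one, ← classInner_irr_self ζ.2]
    simp only [Cfsg.classInner, hψ, hone, DegreeTools.coe_oneChar, map_one, mul_one]
  set n : ZMod p → ℤ := fun k => ∑ s, off D c s * off D c (s - k) with hn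
  have hpat : ∀ b : ZMod p, ψ (D.x ^ b.val) = ∑ k, (n k : ℂ) * ZMod.stdAddChar (k * b) := by
    intro b
    have hval : ∀ b : ZMod p,
        (ζ : G → ℂ) (D.x ^ b.val) = ∑ k, (off D c k : ℂ) * ZMod.stdAddChar (k * b) := fun b => by
      rw [apply_xpow]
      refine Finset.sum_congr rfl fun k _ => ?_
      rw [Members.Minus_nP S.minus k]
      unfold off
      split_ifs <;> simp
    show (ζ : G → ℂ) (D.x ^ b.val) * conj ((ζ : G → ℂ) (D.x ^ b.val)) = _
    rw [← IsIrrCharacter.apply_inv ζ.2, xpow_inv, hval, hval, Finset.sum_mul]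
    simp only [hn, Int.cast_sum, Int.cast_mul, Finset.sum_mul, Finset.mul_sum]
    conv_rhs => rw [Finset.sum_comm]
    refine Finset.sum_congr rfl fun s _ => ?_
    refine Fintype.sum_equiv (Equiv.subLeft s) _ _ fun r => ?_
    rw [Equiv.subLeft_apply, sub_sub_cancel, show (s - r) * b = s * b + r * -b by ring, AddChar.map_add_eq_mul]
    ring
  have hsumoff : ∑ k, off D c k = (16 : ℤ) := by rw [sum_off, S.e_eq, S.p_eq]; norm_num
  have hn0 : n 0 = 16 := by
    simp only [hn, sub_zero]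
    rw [← hsumoff]
    exact Finset.sum_congr rfl fun k _ => by unfold off; split_ifs <;> norm_num
  have hntot : ∑ k, n k = 256 := by
    simp only [hn]
    rw [Finset.sum_comm]
    simp only [← Finset.mul_sum]
    rw [Finset.sum_congr rfl (g := fun s => off D c s * (16 : ℤ)) fun s _ => by
      rw [Fintype.sum_equiv (Equiv.subLeft s) (fun k => off D c (s - k)) (fun k => off D c k) fun k => rfl, hsumoff],
      ← Finset.sum_mul, hsumoff]
    norm_num
  have hkey := B.key_sum_off hexp hsupp (n := n) fun b _ => hpat b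
  rw [hn0, hntot, hδ, S.e_eq, hp19] at hkey
  have hsA : B.sA m = 1 + B.sgn χ₁ * m χ₁ + B.sgn χ₂ * m χ₂ := by
    rw [Blk.sA, hX, Finset.sum_insert (by simp [hn1.symm, hn2.symm]), Finset.sum_pair hne, hone1, hmone]
    push_cast
    ring
  -- degrees
  have hdeg : 60 * B.numY m + 1 + m χ₁ * charDegree (χ₁ : G → ℂ) + m χ₂ * charDegree (χ₂ : G → ℂ) ≤ 256 := by
    have h256 : charDegree ψ = 256 := by
      apply Nat.cast_injective (R := ℂ)
      rw [DegreeTools.charDegree_cast hψc]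
      show (ζ : G → ℂ) 1 * conj ((ζ : G → ℂ) 1) = _
      rw [S.apply_one, map_ofNat]
      norm_num
    rw [← h256, ← Index.sum_deg hψc hexp]
    have hsub : ∑ φ ∈ B.Y ∪ B.X, m φ * charDegree (φ : G → ℂ) ≤ ∑ φ, m φ * charDegree (φ : G → ℂ) :=
      Finset.sum_le_sum_of_subset (Finset.subset_univ _)
    rw [Finset.sum_union B.disj.symm, Finset.sum_congr rfl (g := fun η => m η * 60) fun η hη => by rw [hYdeg η hη],
      ← Finset.sum_mul, hX, Finset.sum_insert (by simp [hn1.symm, hn2.symm]), Finset.sum_pair hne, hdeg1, hmone] at hsub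
    rw [Blk.numY]
    omega
  push_cast at hkey
  have hY2 : B.numY m = 2 := by omega
  have hA' : A = -1 := by
    rcases B.sgn_X χ₁ (Finset.mem_of_mem_erase hm1) with e1 | e1 <;>
      rcases B.sgn_X χ₂ (Finset.mem_of_mem_erase hm2) with e2 | e2 <;> rw [e1] at hc1 hlin <;>
      rw [e2] at hc2 hlin <;> rcases hA with e3 | e3 <;> rw [e3] at hlin <;> omega
  rw [hA'] at hlin
  rw [hY2] at hdeg hkey
  have hfin : B.sgn χ₁ = 1 ∧ B.sgn χ₂ = 1 ∧ m χ₁ + m χ₂ = 2 ∧ (charDegree (χ₁ : G → ℂ) = 20 ∧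
      charDegree (χ₂ : G → ℂ) = 39 ∨ charDegree (χ₁ : G → ℂ) = 39 ∧ charDegree (χ₂ : G → ℂ) = 20) := by
    rcases B.sgn_X χ₁ (Finset.mem_of_mem_erase hm1) with e1 | e1 <;>
      rcases B.sgn_X χ₂ (Finset.mem_of_mem_erase hm2) with e2 | e2 <;> rw [e1] at hc1 hlin hsA <;>
      rw [e2] at hc2 hlin hsA
    · exact ⟨e1, e2, by omega, by omega⟩
    · exfalso
      have : 2 * charDegree (χ₁ : G → ℂ) ≤ m χ₁ * charDegree (χ₁ : G → ℂ) := Nat.mul_le_mul_right _ (by omega)
      omega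
    · exfalso
      have : 2 * charDegree (χ₂ : G → ℂ) ≤ m χ₂ * charDegree (χ₂ : G → ℂ) := Nat.mul_le_mul_right _ (by omega)
      omega
    · omega
  obtain ⟨e1, e2, hsum, hcase⟩ := hfin
  have hreg : ∀ η ∈ B.Y, ∀ g : G, ¬ p ∣ orderOf g → (η : G → ℂ) g = 1 + (χ₁ : G → ℂ) g + (χ₂ : G → ℂ) g := by
    intro η hη g hg
    have h := hrel η hη g hg
    rw [hX, Finset.sum_insert (by simp [hn1.symm, hn2.symm]), Finset.sum_pair hne, hone1, e1, e2, hA', hone,
      DegreeTools.coe_oneChar] at h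
    push_cast at h
    linear_combination -h
  rcases hcase with ⟨h1, h2⟩ | ⟨h1, h2⟩
  · exact S.sixty_core B h1 h2 hX hreg hexp hY2 hsum
  · refine S.sixty_core B h2 h1 ?_ (fun η hη g hg => by rw [hreg η hη g hg]; ring) hexp hY2 (by omega)
    rw [hX, Finset.pair_comm]

/-- There is no such group. -/
theorem false : False := by
  obtain ⟨B⟩ := exists_blk S.minus.K0_eq S.h3 S.minus.theta_one
  obtain ⟨B₀⟩ := exists_blk S.minus.K0_eq S.h3 (fdeg_triv (D := D))
  obtain ⟨j, a, hexp, hkey, hY, hs1, hs2⟩ := product_data S.faith S.hd S.nn S.h3 S.minus (t := 6)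
    (by rw [S.e_eq, S.p_eq]) B B₀
  rw [S.e_eq] at hkey hs2
  have hδ : B₀.δ = 1 := by
    rcases B₀.hδ with h | h
    · exact h
    · exfalso
      have := hs2 h
      rw [h] at hkey
      norm_num at hkey this
      omega
  have hY3 : B₀.numY a = 3 := by
    have := hs1 hδ
    rw [hδ] at hkey
    norm_num at hkey
    omega
  set y := charDegree (B₀.ζ 1 : G → ℂ)
  have hy : (y : ℤ) = 19 * nP D (B₀.ζ 1) 0 + 3 := by
    rw [B₀.deg_ζ 1, hδ, S.e_eq, show (p : ℤ) = 19 by exact_mod_cast S.p_eq]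
    norm_num
  have hpos := B₀.n0_pos (isCharacter_irr ζ) S.faith S.hd S.nn S.h3 1
  have hle : 3 * y ≤ 256 := by
    have hψc : Cfsg.IsCharacter G fun g => (B.ζ 1 : G → ℂ) g * conj ((B.ζ j : G → ℂ) g) :=
      IsCharacter.mul (isCharacter_irr _) (IsCharacter.conj' (isCharacter_irr _))
    have h256 : charDegree (fun g => (B.ζ 1 : G → ℂ) g * conj ((B.ζ j : G → ℂ) g)) = 256 := by
      apply Nat.cast_injective (R := ℂ)
      rw [DegreeTools.charDegree_cast hψc, irr_one_eq, irr_one_eq,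
        (Members.minus S.faith S.hd S.h3 S.minus B 1).2.1, (Members.minus S.faith S.hd S.h3 S.minus B j).2.1, S.deg,
        map_natCast]
      norm_num
    rw [← h256, ← Index.sum_deg hψc hexp]
    refine le_trans ?_ (Finset.sum_le_sum_of_subset (Finset.subset_univ B₀.Y))
    refine le_of_eq ?_
    rw [Finset.sum_congr rfl (g := fun η => a η * y) fun η hη => ?_, ← Finset.sum_mul,
      show ∑ η ∈ B₀.Y, a η = 3 from hY3]
    obtain ⟨l, rfl⟩ := (B₀.mem_Y η).1 hη
    have h1 := B₀.deg_ζ l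
    rw [B₀.nP_zero_eq l 1, ← B₀.deg_ζ 1] at h1
    rw [show charDegree (B₀.ζ l : G → ℂ) = y by exact_mod_cast h1]
  have hcases : y = 22 ∨ y = 41 ∨ y = 60 ∨ y = 79 := by omega
  rcases hcases with h | h | h | h
  · exact S.not_twentyTwo B₀ h
  · haveI : Fact (Nat.Prime 41) := ⟨by norm_num⟩
    exact S.not_dvd_of_big (q := 41) (by norm_num) (h ▸ charDegree_dvd (B₀.ζ 1))
  · exact S.not_sixty B₀ hδ h
  · haveI : Fact (Nat.Prime 79) := ⟨by norm_num⟩
    exact S.not_dvd_of_big (q := 79) (by norm_num) (h ▸ charDegree_dvd (B₀.ζ 1))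

end Data

end CfsgLib.Char.FeitDegree.Sixteen
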