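import Cfsg.Agent.Lib.Char.FeitDegree.Index.Reduce
import Cfsg.Agent.Lib.Char.FeitDegree.Perfect
import Cfsg.Agent.Lib.Char.FeitDegree.Sixteen.Residual

/-!
# Degree `16` and a prime `p ≥ 19`

The Sylow subgroup is normal or the central quotient is `PSL(2, 31)`.
-/

set_option autoImplicit false

open scoped Classical ComplexConjugate commutatorElement

namespace CfsgLib.Char.FeitDegree.Sixteen

open Cfsg CfsgLib CfsgLib.Blocks CfsgLib.Blocks.DefectOne CfsgLib.CharDeep.ExactP
open Setup

universe u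

variable {G : Type u} [Group G] [Fintype G] {p : ℕ} [hp : Fact p.Prime]

/-- The configuration at a Sylow subgroup of order `19`. -/
theorem exists_minus (hp19 : p = 19) {P : Sylow p G} (D : Frame P) (hnn : ¬ (P : Subgroup G).Normal)
    (χ : IrrCharacter G) (hfaith : ∀ g : G, (χ : G → ℂ) g = (χ : G → ℂ) 1 → g = 1)
    (hdeg : charDegree (χ : G → ℂ) = 16) : ∃ θ c, Minus D χ θ c ∧ Nat.card D.act.range = 3 := by
  rcases Setup.cases (D := D) (by omega) hnn χ hfaith (by omega) with h | h | ⟨θ, c, M⟩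
  · omega
  · exact (Main.few_false (by omega) hnn hfaith (by omega) h).elim
  · have := M.deg
    exact ⟨θ, c, M, by omega⟩

/-- No faithful irreducible character of degree `16` at `p = 19`. -/
theorem false_nineteen (hp19 : p = 19) {P : Sylow p G} (hP : Nat.card P = p) (hnn : ¬ (P : Subgroup G).Normal)
    (χ : IrrCharacter G) (hfaith : ∀ g : G, (χ : G → ℂ) g = (χ : G → ℂ) 1 → g = 1)
    (hdeg : charDegree (χ : G → ℂ) = 16) : False := by
  have hd : charDegree (χ : G → ℂ) + 2 ≤ p := by omega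
  obtain ⟨D⟩ := exists_frame P hP
  obtain ⟨θ, c, M, he⟩ := exists_minus hp19 D hnn χ hfaith hdeg
  set H := commutator G with hH
  obtain ⟨hPH, hQnn, hQcard, hGHZ, hperf⟩ :=
    Perfect.commutator_spec hP hnn hfaith hd M (by rw [he]; exact Nat.prime_three)
  haveI : H.Normal := by rw [hH]; infer_instance
  set Q : Sylow p H := P.subtype hPH
  letI := Fintype.ofFinite H
  have hfH : ∀ h : H, (χ : G → ℂ) h = (χ : G → ℂ) ((1 : H) : G) → h = 1 :=
    fun h e => CharDeep.SmallFaithful.faithful_restrict hfaith H h e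
  obtain ⟨D'⟩ := exists_frame Q hQcard
  -- the restriction is irreducible
  obtain ⟨m, hm, hexp⟩ := IsCharacter.exists_multiplicity (IsCharacter.restrict (isCharacter_irr χ) H)
  obtain ⟨φ, h0⟩ : ∃ φ, m φ ≠ 0 := by
    by_contra hall
    push Not at hall
    have := hexp 1
    simp only [hall, Nat.cast_zero, zero_mul, Finset.sum_const_zero, OneMemClass.coe_one] at this
    exact irr_one_ne_zero χ this
  have hinv : ∀ (g : G) (h : H), (φ : H → ℂ) ⟨g * h * g⁻¹, ‹H.Normal›.conj_mem (h : G) h.2 g⟩ = (φ : H → ℂ) h := by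
    intro g h
    obtain ⟨h', hh', z, hz, rfl⟩ := hGHZ g
    rw [← IsIrrCharacter.isClassFunction φ.2 h ⟨h', hh'⟩]
    refine congrArg _ (Subtype.ext ?_)
    show h' * z * (h : G) * (h' * z)⁻¹ = h' * (h : G) * h'⁻¹
    rw [mul_assoc h' z, ← Subgroup.mem_center_iff.1 hz (h : G)]
    simp [mul_assoc]
  obtain ⟨k, hk0, -, hval⟩ := CharDeep.Clifford.restrict_eq_smul H χ.2 φ.2 (by rw [hm]; exact_mod_cast h0) hinv
  have hkd : (χ : G → ℂ) ((1 : H) : G) = (k : ℂ) * (φ : H → ℂ) 1 := congrFun hval 1
  have hfφ : ∀ h : H, (φ : H → ℂ) h = (φ : H → ℂ) 1 → h = 1 := fun h e => hfH h (by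
    have h1 := congrFun hval h
    simp only [Pi.smul_apply, smul_eq_mul] at h1
    rw [h1, e, hkd])
  have h16 : k * charDegree (φ : H → ℂ) = 16 := by
    apply Nat.cast_injective (R := ℂ)
    rw [Nat.cast_mul, ← irr_one_eq, ← hkd, OneMemClass.coe_one, irr_one_eq, hdeg]
  have hφ9 : 9 ≤ charDegree (φ : H → ℂ) := by
    by_contra h
    exact hQnn (Index.normal_of_small (isCharacter_irr φ) hfφ (by omega) Q)
  have hk1 : k = 1 := by
    by_contra h
    have : 2 * charDegree (φ : H → ℂ) ≤ k * charDegree (φ : H → ℂ) := Nat.mul_le_mul_right _ (by omega)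
    omega
  rw [hk1, one_mul] at h16
  obtain ⟨θ', c', M', he'⟩ := exists_minus hp19 D' hQnn φ hfφ h16
  -- the linear characters and the centre
  have hhom : ∀ f : H →* ℂˣ, ∀ h : H, f h = 1 := by
    intro f h
    have h1 : commutator H ≤ f.ker := by
      rw [commutator_def, Subgroup.commutator_le]
      intro a _ b _
      rw [MonoidHom.mem_ker, map_commutatorElement, commutatorElement_def, mul_comm (f a) (f b), mul_inv_cancel_right,
        mul_inv_cancel]
    exact MonoidHom.mem_ker.1 (h1 (hperf ▸ Subgroup.mem_top h))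
  refine Data.false (D := D') (ζ := φ) (θ := θ') (c := c')
    ⟨hp19, he', M', hfφ, hQnn, fun z hz => hfφ _ ?_, fun ψ hψ => ?_⟩
  · obtain ⟨n, ρ, hirr, hρ⟩ := φ.2
    obtain ⟨ω, hω⟩ := exists_eq_smul_of_commute ρ (ρ z) fun g => by
      rw [← Module.End.mul_eq_comp, ← Module.End.mul_eq_comp, ← map_mul, ← map_mul, Subgroup.mem_center_iff.mp hz g]
    have hn : n = 16 := by
      rw [← h16, ← hρ, charDegree, Representation.char_one, Module.finrank_fin_fun, Complex.natCast_re,
        Nat.floor_natCast]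
    have hω16 : ω ^ 16 = 1 := by
      have h1 := congrArg Units.val (hhom (CharDeep.DetExt.detHom ρ) z)
      rw [CharDeep.DetExt.coe_detHom, hω, LinearMap.det_smul, LinearMap.det_id, mul_one, Module.finrank_fin_fun,
        Units.val_one, hn] at h1
      exact h1
    rw [← hρ]
    simp only [Representation.character, map_pow, hω, smul_pow, hω16, one_smul, map_one]
    rw [← Module.End.one_eq_id, one_pow]
  · obtain ⟨f, hf⟩ := exists_hom_of_apply_one_eq_one (isCharacter_irr ψ) (by rw [irr_one_eq, hψ, Nat.cast_one])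
    refine Subtype.ext (funext fun h => ?_)
    rw [hf, DegreeTools.coe_oneChar]
    simp [hhom f h]

/-- Isomorphic fields have isomorphic projective special linear groups. -/
theorem psl_congr {K L : Type*} [Field K] [Field L] (φ : K ≃+* L) :
    Nonempty (Matrix.ProjectiveSpecialLinearGroup (Fin 2) K ≃* Matrix.ProjectiveSpecialLinearGroup (Fin 2) L) := by
  let e : Matrix.SpecialLinearGroup (Fin 2) K ≃* Matrix.SpecialLinearGroup (Fin 2) L :=
    { toFun := Matrix.SpecialLinearGroup.map (φ : K →+* L)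
      invFun := Matrix.SpecialLinearGroup.map (φ.symm : L →+* K)
      left_inv := fun A => by ext i j; simp
      right_inv := fun A => by ext i j; simp
      map_mul' := map_mul _ }
  refine ⟨QuotientGroup.congr _ _ e ?_⟩
  ext A
  constructor
  · rintro ⟨B, hB, rfl⟩
    exact Subgroup.mem_center_iff.2 fun C => by
      obtain ⟨D, rfl⟩ := e.surjective C
      simp only [MonoidHom.coe_coe]
      rw [← map_mul, ← map_mul, Subgroup.mem_center_iff.1 hB D]
  · intro hA
    obtain ⟨B, rfl⟩ := e.surjective A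
    refine ⟨B, Subgroup.mem_center_iff.2 fun C => e.injective ?_, rfl⟩
    rw [map_mul, map_mul, Subgroup.mem_center_iff.1 hA (e C)]

/-- Degree `16` at a prime `p ≥ 19`. -/
theorem main (hp19 : 19 ≤ p) (χ : IrrCharacter G) (hfaith : ∀ g : G, (χ : G → ℂ) g = (χ : G → ℂ) 1 → g = 1)
    (hdeg : charDegree (χ : G → ℂ) = 16) (P : Sylow p G) : (P : Subgroup G).Normal ∨
      (p = 31 ∧ Nonempty (G ⧸ Subgroup.center G ≃* Matrix.ProjectiveSpecialLinearGroup (Fin 2) (ZMod 31))) := by
  by_cases hnn : (P : Subgroup G).Normal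
  · exact Or.inl hnn
  right
  refine Index.reduce (p := p) (by omega) χ hfaith (by omega) P hnn
    fun H _ _ f Q ψ' _ _ _ hQ hQn hf' hψd ⟨eG⟩ => ?_
  have h16 : charDegree (ψ' : H → ℂ) = 16 := hψd.trans hdeg
  rcases Main.shapes (ζ := ψ') (by omega) hQn hf' (by omega) hQ
    (t := Nat.card {c : ConjClasses H // ∃ g, ConjClasses.mk g = c ∧ orderOf g = p}) rfl with
    ⟨⟨F, _, _, hF, ⟨φ⟩⟩, hor, -⟩ | ⟨e, hde, het, ht3, hcase⟩
  · have hp31 : p = 31 := by
      rw [h16] at hor
      rcases hor with h | h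
      · omega
      · exfalso
        exact (by norm_num : ¬ Nat.Prime 33) ((show p = 33 by omega) ▸ hp.out)
    refine ⟨hp31, ?_⟩
    haveI : Fact (Nat.Prime 31) := ⟨by norm_num⟩
    obtain ⟨e⟩ := psl_congr (FiniteField.ringEquivOfCardEq (K := F) (K' := ZMod 31) (by rw [hF, ZMod.card, hp31]))
    exact ⟨eG.trans (φ.trans e)⟩
  · exfalso
    rw [h16] at hde
    set t := Nat.card {c : ConjClasses H // ∃ g, ConjClasses.mk g = c ∧ orderOf g = p}
    have he15 : e ≤ 15 := by
      by_contra h
      have h1 : 16 * t ≤ e * t := Nat.mul_le_mul_right _ (by omega)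
      have h2 : e * 3 ≤ e * t := Nat.mul_le_mul_left _ ht3
      omega
    have he3 : e = 3 := by interval_cases e <;> omega
    exact false_nineteen (by omega) hQ hQn ψ' hf' h16

end CfsgLib.Char.FeitDegree.Sixteen
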