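import Cfsg.Agent.Lib.Char.FeitDegree.Sixteen.Local

/-!
# Degree `16` at `p = 19`: an element of order `39`

The eigenvalues of order `3` of such an element are too few for the constituents of the square.
-/

set_option autoImplicit false

open scoped Classical ComplexConjugate

namespace CfsgLib.Char.FeitDegree.Sixteen

open Cfsg CfsgLib CfsgLib.Blocks CfsgLib.Blocks.DefectOne CfsgLib.CharDeep.ExactP
open CfsgLib.Char.DegHalf (Over)
open Setup Weight Block

universe u

variable {G : Type u} [Group G] [Fintype G]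

omit [Fintype G] in
theorem pow_pair {y v : G} {q L : ℕ} (hy : orderOf y = q) (hv : orderOf v = L) (hc : Commute y v) {k : ℕ} :
    (q ∣ k → (y * v) ^ k = v ^ k) ∧ (L ∣ k → (y * v) ^ k = y ^ k) := by
  rw [hc.mul_pow]
  refine ⟨fun h => ?_, fun h => ?_⟩
  · rw [show y ^ k = 1 from orderOf_dvd_iff_pow_eq_one.1 (hy.symm ▸ h), one_mul]
  · rw [show v ^ k = 1 from orderOf_dvd_iff_pow_eq_one.1 (hv.symm ▸ h), mul_one]

/-- The three counts for an element of order `39` with rational values. -/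
theorem counts {f : G → ℂ} (hf : Cfsg.IsCharacter G f) {y v : G} (hy : orderOf y = 13) (hv : orderOf v = 3)
    (hc : Commute y v) (h13 : Rat f 13) (h3 : Rat f 3) (h39 : Rat f 39) {a : ℂ} (ha : IsPrimitiveRoot a 3) :
    ∃ M M' N : ℕ, cnt f (y * v) a = 39 * M ∧
      (39 : ℂ) * M = ((charDegree f : ℂ) - f v) + 12 * (f y - f (y * v)) ∧
      (39 : ℂ) * M' = (charDegree f : ℂ) - f v - f y + f (y * v) ∧
      (39 : ℂ) * N = (charDegree f : ℂ) + 2 * f v - f y - 2 * f (y * v) := by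
  set g := y * v
  have hg : orderOf g = 39 := by
    rw [hc.orderOf_mul_eq_mul_orderOf_of_coprime (by rw [hy, hv]; norm_num), hy, hv]
  have hy13 : y ^ 13 = 1 := orderOf_dvd_iff_pow_eq_one.1 hy.dvd
  have hv3 : v ^ 3 = 1 := orderOf_dvd_iff_pow_eq_one.1 hv.dvd
  have hg39 : g ^ 39 = 1 := orderOf_dvd_iff_pow_eq_one.1 hg.dvd
  have hval : ∀ k < orderOf g, f (g ^ k) = f g + (if 13 ∣ k then f v - f g else 0) +
      (if 3 ∣ k then f y - f g else 0) +
      if orderOf g ∣ k then (charDegree f : ℂ) - f v - f y + f g else 0 := by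
    intro k hk
    rw [hg] at hk ⊢
    by_cases h1 : 13 ∣ k <;> by_cases h2 : 3 ∣ k
    · have h0 : k = 0 := by omega
      subst h0
      rw [pow_zero, ← DegreeTools.charDegree_cast hf]
      simp
      ring
    · rw [(pow_pair hy hv hc).1 h1, h3 v hv3 k
        ((Nat.Prime.coprime_iff_not_dvd Nat.prime_three).2 h2).symm]
      simp [h1, h2, show ¬ 39 ∣ k by omega]
    · rw [(pow_pair hy hv hc).2 h2, h13 y hy13 k
        ((Nat.Prime.coprime_iff_not_dvd (by norm_num : Nat.Prime 13)).2 h1).symm]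
      simp [h1, h2, show ¬ 39 ∣ k by omega]
    · rw [h39 g hg39 k (show k.Coprime (13 * 3) from Nat.Coprime.mul_right
        ((Nat.Prime.coprime_iff_not_dvd (by norm_num : Nat.Prime 13)).2 h1).symm
        ((Nat.Prime.coprime_iff_not_dvd Nat.prime_three).2 h2).symm)]
      simp [h1, h2, show ¬ 39 ∣ k by omega]
  have key : ∀ b : ℂ, b ^ 39 = 1 → ∃ M : ℕ, cnt f g b = 39 * M ∧ (39 : ℂ) * M
      = f g * (if b = 1 then 39 else 0) + (f v - f g) * (if b ^ 13 = 1 then 3 else 0) +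
        (f y - f g) * (if b ^ 3 = 1 then 13 else 0) + ((charDegree f : ℂ) - f v - f y + f g) := by
    intro b hb
    have h := cnt_formula (f := f) (by norm_num : 0 < 13) (by norm_num : 0 < 3) (by rw [hg]; norm_num)
      (by rw [hg]; norm_num) hval (a := b) (by rw [hg]; exact hb)
    obtain ⟨M, -, hM⟩ := exists_cnt hf g (a := b) (by rw [hg]; exact hb)
    rw [hg, Nat.cast_ofNat] at hM h
    exact ⟨M, hM, by rw [← hM, h]; norm_num⟩
  obtain ⟨b, hb⟩ := exists_prim (by norm_num : 0 < 39)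
  obtain ⟨c, hc'⟩ := exists_prim (by norm_num : 0 < 13)
  have hnot : ∀ {x : ℂ} {n m : ℕ}, IsPrimitiveRoot x n → ¬ n ∣ m → x ^ m ≠ 1 :=
    fun hx hm e => hm (hx.dvd_of_pow_eq_one _ e)
  obtain ⟨M, hM, hM'⟩ := key a (by rw [show (39 : ℕ) = 3 * 13 from rfl, pow_mul, ha.pow_eq_one, one_pow])
  obtain ⟨M', -, hM2⟩ := key b hb.pow_eq_one
  obtain ⟨N, -, hN⟩ := key c (by rw [show (39 : ℕ) = 13 * 3 from rfl, pow_mul, hc'.pow_eq_one, one_pow])
  rw [if_neg (ha.ne_one (by norm_num)), if_neg (hnot ha (by norm_num)), if_pos ha.pow_eq_one] at hM'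
  rw [if_neg (hb.ne_one (by norm_num)), if_neg (hnot hb (by norm_num)), if_neg (hnot hb (by norm_num))] at hM2
  rw [if_neg (hc'.ne_one (by norm_num)), if_pos hc'.pow_eq_one, if_neg (hnot hc' (by norm_num))] at hN
  exact ⟨M, M', N, hM, by rw [hM']; ring, by rw [hM2]; ring, by rw [hN]; ring⟩

variable {p : ℕ} [hp : Fact p.Prime] {P : Sylow p G}

namespace Data

variable {D : Frame P} {ζ : IrrCharacter G} {θ : IrrCharacter D.K0} {c : (ZMod p)ˣ} (S : Data D ζ θ c)
include S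

/-- A character of degree `20` or `39` has eigenvalues of order `3`. -/
theorem count_pos (B : Blk D (Pieces.triv D)) {χ : IrrCharacter G} (hχ : χ ∈ B.X)
    (huniq : ∀ φ ∈ B.X, charDegree (φ : G → ℂ) = charDegree (χ : G → ℂ) → φ = χ)
    (hdeg : charDegree (χ : G → ℂ) = 20 ∨ charDegree (χ : G → ℂ) = 39) {y v : G} (hy : orderOf y = 13)
    (hv : orderOf v = 3) (hc : Commute y v)
    (hvan : ∀ φ : IrrCharacter G, 13 ∣ charDegree (φ : G → ℂ) → ∀ k : ℕ, ¬ 13 ∣ k → (φ : G → ℂ) ((y * v) ^ k) = 0)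
    {a : ℂ} (ha : IsPrimitiveRoot a 3) : ∃ M : ℕ, 1 ≤ M ∧ cnt (χ : G → ℂ) (y * v) a = 39 * M := by
  have hr : ∀ m : ℕ, m.Coprime 16 → ¬ 19 ∣ m → Rat (χ : G → ℂ) m := fun m hm h19 => S.rat_X B hχ huniq hm h19
  obtain ⟨M, M', N, hM, e1, e2, e3⟩ := counts (isCharacter_irr χ) hy hv hc (hr 13 (by norm_num) (by norm_num))
    (hr 3 (by norm_num) (by norm_num)) (hr 39 (by norm_num) (by norm_num)) ha
  refine ⟨M, Nat.one_le_iff_ne_zero.2 fun h0 => ?_, hM⟩
  have hx : D.x ∉ charKer (isCharacter_irr χ) := fun hx => by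
    have hval : (fun k => (nP D χ k : ℂ)) = fun k => if k = 0 then (charDegree (χ : G → ℂ) : ℂ) else 0 := by
      refine coeff_unique fun b => ?_
      rw [← apply_xpow, (mem_charKer _).1 (pow_mem hx b.val), irr_one_eq,
        Finset.sum_eq_single (0 : ZMod p) (fun k _ hk => by rw [if_neg hk, zero_mul])
          (fun h => absurd (Finset.mem_univ _) h), if_pos rfl, zero_mul, AddChar.map_zero_eq_one, mul_one]
    have h1 := congrFun hval 1
    simp only [one_ne_zero, if_false, Nat.cast_eq_zero] at h1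
    have h2 := congrFun hval 0
    simp only [if_true, Nat.cast_inj] at h2
    have h3 := B.diffX χ hχ 1 one_ne_zero
    rcases B.sgn_X χ hχ with e | e <;> omega
  have hker : ∀ {g : G} {m : ℕ}, m.Coprime 16 → g ^ m = 1 → (χ : G → ℂ) g = (charDegree (χ : G → ℂ) : ℂ) → g = 1 :=
    fun hm hgm he => S.eq_one_of_ker χ hx (by rw [he, irr_one_eq]) hm hgm
  have hv3 : v ^ 3 = 1 := orderOf_dvd_iff_pow_eq_one.1 hv.dvd
  have hv1 : v ≠ 1 := fun e => by rw [e, orderOf_one] at hv; omega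
  rw [h0, Nat.cast_zero, mul_zero] at e1
  refine hv1 (hker (by norm_num : Nat.Coprime 3 16) hv3 ?_)
  rcases hdeg with hd | hd
  · -- degree twenty
    have hy13 : y ^ 13 = 1 := orderOf_dvd_iff_pow_eq_one.1 hy.dvd
    obtain ⟨n, hn, hle⟩ := exists_prime_value (isCharacter_irr χ) (by norm_num : Nat.Prime 13) hy fun k hk =>
      hr 13 (by norm_num) (by norm_num) y hy13 k ((Nat.Prime.coprime_iff_not_dvd (by norm_num)).2 hk).symm
    rw [hd] at hn hle
    have hn1 : n = 1 := by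
      rcases Nat.eq_zero_or_pos n with h | h
      · exfalso
        have := hker (by norm_num : Nat.Coprime 13 16) hy13 (by rw [hn, h, hd]; simp)
        rw [this, orderOf_one] at hy
        omega
      · omega
    rw [hn1] at hn
    rw [hd] at e1 e2 e3 ⊢
    have hM' : N + 2 * M' = 1 := by
      apply Nat.cast_injective (R := ℂ)
      push_cast
      rw [hn] at e2 e3
      push_cast at e2 e3 ⊢
      linear_combination (1 / 39 : ℂ) * e3 + (2 / 39 : ℂ) * e2
    rw [show M' = 0 by omega, Nat.cast_zero, mul_zero, hn] at e2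
    rw [hn] at e1
    push_cast at e1 e2 ⊢
    linear_combination (1 / 13 : ℂ) * e1 + (12 / 13 : ℂ) * e2
  · have h1 := hvan χ (by rw [hd]; norm_num)
    have hg0 : (χ : G → ℂ) (y * v) = 0 := by simpa using h1 1 (by norm_num)
    have hy0 : (χ : G → ℂ) y = 0 := by
      rw [← hr 13 (by norm_num) (by norm_num) y (orderOf_dvd_iff_pow_eq_one.1 hy.dvd) 3 (by norm_num),
        ← (pow_pair hy hv hc (k := 3)).2 dvd_rfl]
      exact h1 3 (by norm_num)
    rw [hg0, hy0] at e1
    rw [hd] at e1 ⊢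
    linear_combination e1

/-- The eigenvalues of order `3` of the square. -/
theorem count_square {y v : G} (hy : orderOf y = 13) (hv : orderOf v = 3) (hc : Commute y v) {a : ℂ}
    (ha : IsPrimitiveRoot a 3) :
    ∃ M N : ℕ, cnt (fun g => (ζ : G → ℂ) g * conj ((ζ : G → ℂ) g)) (y * v) a = 39 * M ∧ M + 3 * N ^ 2 = 8 * N := by
  haveI : Fact (Nat.Prime 13) := ⟨by norm_num⟩
  have hr : ∀ m : ℕ, m.Coprime 16 → ¬ 19 ∣ m → Rat (ζ : G → ℂ) m := fun m hm h19 => S.rat_zeta hm h19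
  obtain ⟨N, N', K, -, e1, e2, e3⟩ := counts (isCharacter_irr ζ) hy hv hc (hr 13 (by norm_num) (by norm_num))
    (hr 3 (by norm_num) (by norm_num)) (hr 39 (by norm_num) (by norm_num)) ha
  have hVy : (ζ : G → ℂ) y = 3 := by
    rw [S.value (Or.inr rfl) hy]
    norm_num
  rw [S.deg, hVy] at e1 e2 e3
  push_cast at e1 e2 e3
  have hN' : K + 2 * N' = 1 := by
    apply Nat.cast_injective (R := ℂ)
    push_cast
    linear_combination (1 / 39 : ℂ) * e3 + (2 / 39 : ℂ) * e2
  rw [show N' = 0 by omega, Nat.cast_zero, mul_zero] at e2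
  have hVv : (ζ : G → ℂ) v = 16 - 3 * (N : ℂ) := by linear_combination (1 / 13 : ℂ) * e1 + (12 / 13 : ℂ) * e2
  have hVg : (ζ : G → ℂ) (y * v) = 3 - 3 * (N : ℂ) := by linear_combination (1 / 13 : ℂ) * e1 - (1 / 13 : ℂ) * e2
  have hr' : ∀ m : ℕ, m.Coprime 16 → ¬ 19 ∣ m → Rat (fun g => (ζ : G → ℂ) g * conj ((ζ : G → ℂ) g)) m :=
    fun m hm h19 g hg j hj => by simp only [hr m hm h19 g hg j hj]
  obtain ⟨M, -, -, hM, f1, -, -⟩ := counts
    (IsCharacter.mul (isCharacter_irr ζ) (IsCharacter.conj' (isCharacter_irr ζ))) hy hv hc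
    (hr' 13 (by norm_num) (by norm_num)) (hr' 3 (by norm_num) (by norm_num)) (hr' 39 (by norm_num) (by norm_num)) ha
  refine ⟨M, N, hM, ?_⟩
  have hd : (charDegree ((ζ : G → ℂ) * fun g => conj ((ζ : G → ℂ) g)) : ℂ) = 256 := by
    rw [DegreeTools.charDegree_cast (IsCharacter.mul (isCharacter_irr ζ) (IsCharacter.conj' (isCharacter_irr ζ))),
      Pi.mul_apply, S.apply_one, map_ofNat]
    norm_num
  rw [hd] at f1
  simp only [Pi.mul_apply, hVy, hVv, hVg, map_sub, map_mul, map_ofNat, map_natCast] at f1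
  apply Nat.cast_injective (R := ℂ)
  push_cast
  linear_combination (1 / 39 : ℂ) * f1

end Data

end CfsgLib.Char.FeitDegree.Sixteen
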